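import Groth.Agent.Fano.K409.ZeroEntry
import Groth.Agent.Fano.K714.Irr

/-!
# Determinantal representations modulo a linear form

`V = k⁵`, `E = V*`, `F : V → k` any function (a cubic form).
* `S4 F`: the tuples `(h, v, P, y)` with `h ≠ 0` and `F = ∑ v_i P_ij y_j` on `ker h`;
* `DDh F`: the pairs `(h, N)` with `h ≠ 0` and `F = det N` on `ker h`.

`irr_DDh : Irr k (S4 F) → Irr k (DDh F)`.
-/

set_option autoImplicit false
universe u

namespace K409.DD

open Matrix Module LefPen Groth.Agent.Lefpen.H703.ZOpen K714.Irr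

variable {k : Type u} [Field k]

/-- linear forms on `k⁵` -/
abbrev E (k : Type u) [Field k] : Type u := Dual k (Fin 5 → k)

/-- `F = ∑ v_i P_ij y_j` on `ker h` -/
def S4 (F : (Fin 5 → k) → k) : Set (E k × (Fin 2 → E k) × (Fin 2 → Fin 2 → E k) × (Fin 2 → E k)) :=
  {p | p.1 ≠ 0 ∧ ∀ x, p.1 x = 0 → F x = ∑ i, ∑ j, p.2.1 i x * p.2.2.1 i j x * p.2.2.2 j x}

/-- `F = det N` on `ker h` -/
def DDh (F : (Fin 5 → k) → k) : Set (E k × (Fin 3 → Fin 3 → E k)) :=
  {p | p.1 ≠ 0 ∧ ∀ x, p.1 x = 0 → F x = (Matrix.of fun i j => p.2 i j x).det}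

/-- the 3 × 3 matrix with a zero entry attached to `(v, P, y)` -/
def N0 (v : Fin 2 → E k) (P : Fin 2 → Fin 2 → E k) (y : Fin 2 → E k) : Fin 3 → Fin 3 → E k :=
  ![![0, v 0, v 1], ![y 0, -P 1 1, P 0 1], ![y 1, P 1 0, -P 0 0]]

theorem det_N0 (v : Fin 2 → E k) (P : Fin 2 → Fin 2 → E k) (y : Fin 2 → E k) (x : Fin 5 → k) :
    (Matrix.of fun i j => N0 v P y i j x).det = ∑ i, ∑ j, v i x * P i j x * y j x := by
  rw [Matrix.det_fin_three]
  simp [N0, Fin.sum_univ_two]
  ring

/-- the diagonal scaling -/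
def sg (s : k) : Fin 3 → k := ![s, 1, 1]

/-- 3 × 3 matrices as functions -/
abbrev Mt (k : Type u) : Type u := Fin 3 → Fin 3 → k

/-- the parameter space -/
abbrev Par (k : Type u) [Field k] : Type u :=
  (((Mt k × Mt k) × k) × (E k × (Fin 2 → E k) × (Fin 2 → Fin 2 → E k) × (Fin 2 → E k))) × Mt k

/-- the parametrisation -/
def par (p : Par k) : E k × (Fin 3 → Fin 3 → E k) :=
  (p.1.2.1, fun i j => (∑ a, ∑ b, (p.1.1.1.1 i a * sg p.1.1.2 a * p.1.1.1.2 b j) •
    N0 p.1.2.2.1 p.1.2.2.2.1 p.1.2.2.2.2 a b) + p.2 i j • p.1.2.1)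

theorem par_apply (A B : Mt k) (s : k) (h : E k) (v : Fin 2 → E k)
    (P : Fin 2 → Fin 2 → E k) (y : Fin 2 → E k) (C : Mt k) (x : Fin 5 → k) :
    (Matrix.of fun i j => (par ((((A, B), s), (h, v, P, y)), C)).2 i j x) =
      Matrix.of A * Matrix.diagonal (sg s) * (Matrix.of fun i j => N0 v P y i j x) * Matrix.of B +
        h x • Matrix.of C := by
  ext i j
  simp only [par, Matrix.of_apply, LinearMap.add_apply, LinearMap.smul_apply, LinearMap.sum_apply, smul_eq_mul,
    Matrix.add_apply, Matrix.smul_apply]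
  have hD : ∀ i a, (Matrix.of A * Matrix.diagonal (sg s)) i a = A i a * sg s a :=
    fun i a => Matrix.mul_diagonal _ _ _ _
  generalize Matrix.of A * Matrix.diagonal (sg s) = D at hD ⊢
  congr 1
  · simp only [Matrix.mul_apply, hD, Finset.sum_mul, Matrix.of_apply]
    rw [Finset.sum_comm]
    refine Finset.sum_congr rfl fun b _ => Finset.sum_congr rfl fun a _ => ?_
    ring
  · ring

theorem det_sg (s : k) : (Matrix.diagonal (sg s)).det = s := by
  rw [Matrix.det_diagonal]
  simp [sg, Fin.prod_univ_three]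

/-- determinants of polynomial matrices are polynomial -/
theorem pf_det3 {X : Type u} [AddCommGroup X] [Module k X] {φ : X → Mt k}
    (h : ∀ i j, IsPolyFun k (fun x => φ x i j)) : IsPolyFun k (fun x => (Matrix.of (φ x)).det) := by
  simp only [Matrix.det_fin_three, Matrix.of_apply]
  exact pf_sub (pf_add (pf_add (pf_sub (pf_sub (pf_mul (pf_mul (h _ _) (h _ _)) (h _ _))
    (pf_mul (pf_mul (h _ _) (h _ _)) (h _ _))) (pf_mul (pf_mul (h _ _) (h _ _)) (h _ _)))
    (pf_mul (pf_mul (h _ _) (h _ _)) (h _ _))) (pf_mul (pf_mul (h _ _) (h _ _)) (h _ _)))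
    (pf_mul (pf_mul (h _ _) (h _ _)) (h _ _))

/-- entries -/
def ent (i j : Fin 3) : Mt k →ₗ[k] k :=
  (LinearMap.proj (R := k) (φ := fun _ : Fin 3 => k) j).comp
    (LinearMap.proj (R := k) (φ := fun _ : Fin 3 => Fin 3 → k) i)

theorem ent_apply (i j : Fin 3) (A : Mt k) : ent i j A = A i j := rfl

/-- the irreducible parameter space of scalings -/
theorem irr_scal [Infinite k] : Irr k {p : (Mt k × Mt k) × k |
    (Matrix.of p.1.1).det * (Matrix.of p.1.2).det ≠ 0 ∧
      (Matrix.of p.1.1).det * (Matrix.of p.1.2).det * p.2 = 1} := by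
  have h1 : IsPolyFun k (fun p : Mt k × Mt k => (Matrix.of p.1).det * (Matrix.of p.2).det) := by
    refine pf_mul (pf_det3 fun i j => ?_) (pf_det3 fun i j => ?_)
    · exact isPolyFun_linear' ((ent i j).comp (LinearMap.fst k (Mt k) (Mt k)))
    · exact isPolyFun_linear' ((ent i j).comp (LinearMap.snd k (Mt k) (Mt k)))
  have h2 : Irr k {p : Mt k × Mt k | (Matrix.of p.1).det * (Matrix.of p.2).det ≠ 0} := by
    have h := (irr_univ (k := k) (V := Mt k × Mt k)).inter_open
      (O := {p | (Matrix.of p.1).det * (Matrix.of p.2).det ≠ 0}) (fun p hp => ⟨_, h1, hp, fun w hw => hw⟩)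
      ⟨((1 : Matrix (Fin 3) (Fin 3) k), (1 : Matrix (Fin 3) (Fin 3) k)), trivial, by
        simp only [Set.mem_ofPred_eq]
        change (1 : Matrix (Fin 3) (Fin 3) k).det * (1 : Matrix (Fin 3) (Fin 3) k).det ≠ 0
        simp⟩
    rwa [Set.univ_inter] at h
  have h3 := h2.of_linear (W := k) (W' := k)
    (fun p => LinearMap.toSpanSingleton k k ((Matrix.of p.1).det * (Matrix.of p.2).det))
    (fun w => by
      intro l
      have : (fun p : Mt k × Mt k =>
          l (LinearMap.toSpanSingleton k k ((Matrix.of p.1).det * (Matrix.of p.2).det) w)) =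
          fun p => ((Matrix.of p.1).det * (Matrix.of p.2).det) * (l w) := by
        funext p
        rw [LinearMap.toSpanSingleton_apply, smul_eq_mul, mul_comm w, ← smul_eq_mul, map_smul, smul_eq_mul]
      rw [this]
      exact pf_mul h1 (isPolyFun_const _))
    (fun _ => 1) (isPolyMap_const _) 1
    (fun p hp => by
      have : LinearMap.range (LinearMap.toSpanSingleton k k
          ((Matrix.of p.1).det * (Matrix.of p.2).det)) = ⊤ := by
        rw [LinearMap.range_eq_top]
        intro c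
        exact ⟨c * ((Matrix.of p.1).det * (Matrix.of p.2).det)⁻¹, by
          rw [LinearMap.toSpanSingleton_apply, smul_eq_mul, mul_assoc, inv_mul_cancel₀ hp, mul_one]⟩
      rw [this, finrank_top, finrank_self])
    (fun p hp => ⟨((Matrix.of p.1).det * (Matrix.of p.2).det)⁻¹, by
      rw [LinearMap.toSpanSingleton_apply, smul_eq_mul, inv_mul_cancel₀ hp]⟩)
  have h4 : {p : (Mt k × Mt k) × k | (Matrix.of p.1.1).det * (Matrix.of p.1.2).det ≠ 0 ∧
      (Matrix.of p.1.1).det * (Matrix.of p.1.2).det * p.2 = 1} =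
      {p | p.1 ∈ {p : Mt k × Mt k | (Matrix.of p.1).det * (Matrix.of p.2).det ≠ 0} ∧
        LinearMap.toSpanSingleton k k ((Matrix.of p.1.1).det * (Matrix.of p.1.2).det) p.2 = 1} := by
    ext p
    simp only [Set.mem_ofPred_eq, LinearMap.toSpanSingleton_apply, smul_eq_mul]
    rw [mul_comm p.2]
  rw [h4]
  exact h3

/-- polynomial maps into function spaces -/
theorem pm_pi {X W : Type u} [AddCommGroup X] [Module k X] [AddCommGroup W] [Module k W] {n : ℕ}
    {φ : X → Fin n → W} (h : ∀ i, IsPolyMap k (fun x => φ x i)) : IsPolyMap k φ := by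
  intro l
  have : (fun v => l (φ v)) = fun v => ∑ i, (l.comp (LinearMap.single k (fun _ => W) i)) (φ v i) := by
    funext v
    conv_lhs => rw [← Finset.univ_sum_single (φ v), map_sum]
    rfl
  rw [this]
  exact pf_sum _ fun i _ => h i _

theorem pm_sum {V A : Type u} [AddCommGroup V] [Module k V] [AddCommGroup A] [Module k A] {ι : Type*}
    (s : Finset ι) {φ : ι → V → A} (h : ∀ i ∈ s, IsPolyMap k (φ i)) :
    IsPolyMap k (fun v => ∑ i ∈ s, φ i v) := by
  intro l
  simp only [map_sum]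
  exact pf_sum s fun i hi => h i hi l

/-- components of the parameter -/
def pA : Par k →ₗ[k] Mt k :=
  (LinearMap.fst k _ _).comp ((LinearMap.fst k _ _).comp ((LinearMap.fst k _ _).comp (LinearMap.fst k _ _)))

def pB : Par k →ₗ[k] Mt k :=
  (LinearMap.snd k _ _).comp ((LinearMap.fst k _ _).comp ((LinearMap.fst k _ _).comp (LinearMap.fst k _ _)))

def pS : Par k →ₗ[k] k :=
  (LinearMap.snd k _ _).comp ((LinearMap.fst k _ _).comp (LinearMap.fst k _ _))

def pH : Par k →ₗ[k] E k :=
  (LinearMap.fst k _ _).comp ((LinearMap.snd k _ _).comp (LinearMap.fst k _ _))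

def pV (i : Fin 2) : Par k →ₗ[k] E k :=
  (LinearMap.proj (R := k) (φ := fun _ : Fin 2 => E k) i).comp
    ((LinearMap.fst k _ _).comp ((LinearMap.snd k _ _).comp ((LinearMap.snd k _ _).comp (LinearMap.fst k _ _))))

def pP (i j : Fin 2) : Par k →ₗ[k] E k :=
  (LinearMap.proj (R := k) (φ := fun _ : Fin 2 => E k) j).comp
    ((LinearMap.proj (R := k) (φ := fun _ : Fin 2 => Fin 2 → E k) i).comp
      ((LinearMap.fst k _ _).comp ((LinearMap.snd k _ _).comp
        ((LinearMap.snd k _ _).comp ((LinearMap.snd k _ _).comp (LinearMap.fst k _ _))))))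

def pY (i : Fin 2) : Par k →ₗ[k] E k :=
  (LinearMap.proj (R := k) (φ := fun _ : Fin 2 => E k) i).comp
    ((LinearMap.snd k _ _).comp ((LinearMap.snd k _ _).comp
        ((LinearMap.snd k _ _).comp ((LinearMap.snd k _ _).comp (LinearMap.fst k _ _)))))

def pC : Par k →ₗ[k] Mt k := LinearMap.snd k _ _

theorem pmL {W : Type u} [AddCommGroup W] [Module k W] (L : Par k →ₗ[k] W) : IsPolyMap k (fun p : Par k => L p) :=
  isPolyMap_linear (k := k) (V := Par k) (W := W) L

theorem pfL (L : Par k →ₗ[k] k) : IsPolyFun k (fun p : Par k => L p) :=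
  isPolyFun_linear' (k := k) (V := Par k) L

theorem pm_par : IsPolyMap k (par (k := k)) := by
  have hH : IsPolyMap k (fun x : Par k => x.1.2.1) := pmL (k := k) (pH (k := k))
  refine pm_prodMk hH (pm_pi fun i => pm_pi fun j => pm_add (pm_sum _ fun a _ => pm_sum _ fun b _ =>
    pm_smul (pf_mul (pf_mul ?_ ?_) ?_) ?_) (pm_smul ?_ hH))
  · exact pfL (k := k) ((ent (k := k) i a).comp (pA (k := k)))
  · fin_cases a
    · exact pfL (k := k) (pS (k := k))
    · exact isPolyFun_const _
    · exact isPolyFun_const _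
  · exact pfL (k := k) ((ent (k := k) b j).comp (pB (k := k)))
  · fin_cases a <;> fin_cases b
    · exact isPolyMap_const _
    · exact pmL (k := k) (pV (k := k) 0)
    · exact pmL (k := k) (pV (k := k) 1)
    · exact pmL (k := k) (pY (k := k) 0)
    · exact pmL (k := k) (-pP (k := k) 1 1)
    · exact pmL (k := k) (pP (k := k) 0 1)
    · exact pmL (k := k) (pY (k := k) 1)
    · exact pmL (k := k) (pP (k := k) 1 0)
    · exact pmL (k := k) (-pP (k := k) 0 0)
  · exact pfL (k := k) ((ent (k := k) i j).comp (pC (k := k)))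

/-- a linear form vanishing on the kernel of `h` is a multiple of `h` -/
theorem exists_smul {h w : E k} (hw : ∀ x, h x = 0 → w x = 0) : ∃ c : k, w = c • h := by
  by_cases h0 : h = 0
  · refine ⟨0, ?_⟩
    ext x
    simp [hw _ (by rw [h0]; rfl)]
  · obtain ⟨x₀, hx₀⟩ : ∃ x, h x ≠ 0 := by
      by_contra hcon
      push Not at hcon
      exact h0 (LinearMap.ext hcon)
    refine ⟨w x₀ / h x₀, LinearMap.ext fun x => ?_⟩
    have h1 := hw (x - (h x / h x₀) • x₀) (by
      rw [map_sub, map_smul, smul_eq_mul, div_mul_cancel₀ _ hx₀, sub_self])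
    rw [map_sub, map_smul, smul_eq_mul, sub_eq_zero] at h1
    rw [h1, LinearMap.smul_apply, smul_eq_mul]
    field_simp

/-- **The parametrisation is onto.** -/
theorem exists_par [IsAlgClosed k] {F : (Fin 5 → k) → k} {p : E k × (Fin 3 → Fin 3 → E k)} (hp : p ∈ DDh F) :
    ∃ q : Par k, ((Matrix.of q.1.1.1.1).det * (Matrix.of q.1.1.1.2).det ≠ 0 ∧
      (Matrix.of q.1.1.1.1).det * (Matrix.of q.1.1.1.2).det * q.1.1.2 = 1) ∧ q.1.2 ∈ S4 F ∧ par q = p := by
  obtain ⟨h, N⟩ := p
  obtain ⟨h0, hF⟩ := hp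
  simp only at h0 hF
  have hker : finrank k ↥(LinearMap.ker h) = 4 := by
    have h1 := LinearMap.finrank_range_add_finrank_ker h
    have h2 : LinearMap.range h = ⊤ := LinearMap.range_eq_top.2 (LinearMap.surjective h0)
    rw [h2, finrank_top, finrank_self, finrank_fin_fun] at h1
    omega
  let e : Basis (Fin 4) k ↥(LinearMap.ker h) := finBasisOfFinrankEq k _ hker
  obtain ⟨P, Q, hP, hQ, hPQ⟩ := K409.ZeroEntry.exists_gl (fun t => Matrix.of fun i j => N i j (e t : Fin 5 → k)) 0 0
  -- the transformed matrix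
  let W : Fin 3 → Fin 3 → E k := fun a b => ∑ i, ∑ j, (P a i * Q j b) • N i j
  have hW : ∀ x, (Matrix.of fun a b => W a b x) = P * (Matrix.of fun i j => N i j x) * Q := by
    intro x
    ext a b
    simp only [W, Matrix.of_apply, LinearMap.sum_apply, LinearMap.smul_apply, smul_eq_mul, Matrix.mul_apply,
      Finset.sum_mul]
    rw [Finset.sum_comm]
    refine Finset.sum_congr rfl fun j _ => Finset.sum_congr rfl fun i _ => ?_
    ring
  have hW0 : ∀ x, h x = 0 → W 0 0 x = 0 := by
    intro x hx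
    have h1 : (⟨x, hx⟩ : ↥(LinearMap.ker h)) = ∑ t, e.repr ⟨x, hx⟩ t • e t := (e.sum_repr _).symm
    have h2 := congrArg Subtype.val h1
    simp only [Submodule.coe_sum, Submodule.coe_smul] at h2
    rw [h2, map_sum]
    refine Finset.sum_eq_zero fun t _ => ?_
    rw [map_smul]
    have h3 := hPQ t
    rw [← hW] at h3
    rw [Matrix.of_apply] at h3
    rw [h3, smul_zero]
  obtain ⟨c, hc⟩ := exists_smul hW0
  obtain ⟨A', hPi, hPd⟩ : ∃ A' : Mt k, Matrix.of A' * P = 1 ∧ (Matrix.of A').det = P.det⁻¹ :=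
    ⟨fun i j => P⁻¹ i j, Matrix.nonsing_inv_mul _ (isUnit_iff_ne_zero.2 hP),
      (Matrix.det_nonsing_inv P).trans (congrFun Ring.inverse_eq_inv' _)⟩
  obtain ⟨B', hQi, hQd⟩ : ∃ B' : Mt k, Q * Matrix.of B' = 1 ∧ (Matrix.of B').det = Q.det⁻¹ :=
    ⟨fun i j => Q⁻¹ i j, Matrix.mul_nonsing_inv _ (isUnit_iff_ne_zero.2 hQ),
      (Matrix.det_nonsing_inv Q).trans (congrFun Ring.inverse_eq_inv' _)⟩
  let s : k := P.det * Q.det
  have hs : s ≠ 0 := mul_ne_zero hP hQ
  let v : Fin 2 → E k := ![s⁻¹ • W 0 1, s⁻¹ • W 0 2]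
  let y : Fin 2 → E k := ![W 1 0, W 2 0]
  let R : Fin 2 → Fin 2 → E k := ![![-W 2 2, W 1 2], ![W 2 1, -W 1 1]]
  let C : Mt k := fun i j => c * (A' i 0 * B' 0 j)
  have hN0 : ∀ x, Matrix.diagonal (sg s) * (Matrix.of fun i j => N0 v R y i j x) =
      (Matrix.of fun a b => W a b x) - (c * h x) • Matrix.single 0 0 1 := by
    intro x
    have hc' : W 0 0 x = c * h x := by rw [hc]; rfl
    ext a b
    rw [Matrix.diagonal_mul]
    fin_cases a <;> fin_cases b <;>
      simp [sg, N0, v, y, R, hs, hc', Matrix.single]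
  have hpar : ∀ x, (Matrix.of fun i j => (par ((((A', B'), s), (h, v, R, y)), C)).2 i j x) =
      Matrix.of fun i j => N i j x := by
    intro x
    rw [par_apply]
    rw [Matrix.mul_assoc (Matrix.of A'), hN0, hW, Matrix.mul_sub, Matrix.sub_mul]
    have h1 : Matrix.of A' * (P * (Matrix.of fun i j => N i j x) * Q) * Matrix.of B' =
        Matrix.of fun i j => N i j x := by
      rw [Matrix.mul_assoc P, ← Matrix.mul_assoc (Matrix.of A'), hPi, Matrix.one_mul, Matrix.mul_assoc, hQi,
        Matrix.mul_one]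
    have h2 : Matrix.of A' * (c * h x) • Matrix.single 0 0 (1 : k) * Matrix.of B' = h x • Matrix.of C := by
      ext i j
      rw [Matrix.mul_smul, Matrix.smul_mul, Matrix.smul_apply, Matrix.smul_apply, Matrix.of_apply]
      have : (Matrix.of A' * Matrix.single 0 0 (1 : k) * Matrix.of B' : Matrix (Fin 3) (Fin 3) k) i j =
          A' i 0 * B' 0 j := by
        rw [Matrix.mul_apply, Finset.sum_eq_single 0]
        · rw [Matrix.mul_apply, Finset.sum_eq_single 0]
          · simp [Matrix.single]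
          · intro a _ ha
            simp [Matrix.single, ha.symm]
          · simp
        · intro b _ hb
          rw [Matrix.mul_apply, Finset.sum_eq_zero, zero_mul]
          intro a _
          simp [Matrix.single, hb.symm]
        · simp
      rw [this, smul_eq_mul, smul_eq_mul]
      ring
    rw [h1, h2, sub_add_cancel]
  refine ⟨((((A', B'), s), (h, v, R, y)), C), ⟨?_, ?_⟩, ⟨h0, fun x hx => ?_⟩, ?_⟩
  · change (Matrix.of A').det * (Matrix.of B').det ≠ 0
    rw [hPd, hQd]
    exact mul_ne_zero (inv_ne_zero hP) (inv_ne_zero hQ)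
  · change (Matrix.of A').det * (Matrix.of B').det * (P.det * Q.det) = 1
    rw [hPd, hQd]
    field_simp
  · change F x = _
    have hx' : h x = 0 := hx
    rw [hF x hx', ← hpar x, par_apply, hx', zero_smul, add_zero, Matrix.det_mul, Matrix.det_mul, Matrix.det_mul,
      det_sg, det_N0]
    rw [hPd, hQd]
    change P.det⁻¹ * (P.det * Q.det) * _ * Q.det⁻¹ = _
    field_simp
  · refine Prod.ext rfl (funext fun i => funext fun j => LinearMap.ext fun x => ?_)
    exact congrFun (congrFun (hpar x) i) j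

/-- **I4**: `{(h, N) : F = det N on ker h}` is irreducible if `{(h, v, P, y) : F = v P y on ker h}` is. -/
theorem irr_DDh [IsAlgClosed k] {F : (Fin 5 → k) → k} (hS : Irr k (S4 F)) : Irr k (DDh F) := by
  have hinf : Infinite k := IsAlgClosed.instInfinite
  have h1 := (irr_scal (k := k)).prod hS
  have h2 := h1.prod_univ (W := Mt k)
  have h3 := h2.image pm_par
  have h4 : par (k := k) '' {p | p.1 ∈ {p : ((Mt k × Mt k) × k) ×
      (E k × (Fin 2 → E k) × (Fin 2 → Fin 2 → E k) × (Fin 2 → E k)) |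
        p.1 ∈ {p : (Mt k × Mt k) × k | (Matrix.of p.1.1).det * (Matrix.of p.1.2).det ≠ 0 ∧
          (Matrix.of p.1.1).det * (Matrix.of p.1.2).det * p.2 = 1} ∧ p.2 ∈ S4 F}} = DDh F := by
    ext p
    constructor
    · rintro ⟨⟨⟨⟨⟨A, B⟩, s⟩, h, v, P, y⟩, C⟩, ⟨⟨hA, hs⟩, h0, hF⟩, rfl⟩
      refine ⟨h0, fun x hx => ?_⟩
      have hx' : h x = 0 := hx
      rw [par_apply, hx', zero_smul, add_zero, Matrix.det_mul, Matrix.det_mul, Matrix.det_mul, det_sg, det_N0,
        hF x hx']
      simp only at hs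
      linear_combination (-(∑ i, ∑ j, v i x * P i j x * y j x)) * hs
    · intro hp
      obtain ⟨q, h1, h2, h3⟩ := exists_par hp
      exact ⟨q, ⟨h1, h2⟩, h3⟩
  rwa [h4] at h3

end K409.DD
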