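import Groth.Agent.Fano.K409.PfGen

/-!
# General sections of the cokernel of a skew 6 × 6 matrix of linear forms, on a hypersurface (characteristic zero)

`isGeneric_sect2`: for a general vector `s`, if `M(x) b = s`, `q ∈ ker M(x)`, `f(x) = 0` and
`qᵀ M(v) b + c (df)_x(v) = 0` for all `v`, then `q = 0`.
-/

set_option autoImplicit false
universe u

namespace K409.PfGen

open MvPolynomial LefPen

section Field

variable {k K : Type*} [Field k] [Field K] [Algebra k K] [CharZero k]

/-- A generic vector. -/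
theorem no_generic2 {p n : ℕ} (m : Fin p → Fin p → Fin n → k) (hm : ∀ i j t, m j i t = -m i j t)
    (f : MvPolynomial (Fin n) k) (s : Fin p → K) (x : Fin n → K) (b q u : Fin p → K) (c : K)
    (h1 : ∀ i, ∑ j, ∑ t, algebraMap k K (m i j t) * x t * b j = s i)
    (h2 : ∀ i, ∑ j, ∑ t, algebraMap k K (m i j t) * x t * q j = 0)
    (h3 : aeval x f = 0)
    (h5 : ∀ t, ∑ i, ∑ j, algebraMap k K (m i j t) * (q i * b j) + c * aeval x (pderiv t f) = 0)
    (h6 : ∑ i, u i * q i = 1) : ¬ AlgebraicIndependent k s := by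
  intro hs
  classical
  let m' : Fin p → Fin p → Fin n → K := fun i j t => algebraMap k K (m i j t)
  have hm' : ∀ i j t, m' j i t = -m' i j t := fun i j t => by
    simp only [m', hm i j t, map_neg]
  have e2 : ∀ a, tr m' a x q = 0 := fun a => by
    rw [tr_eq_left]
    exact Finset.sum_eq_zero fun i _ => by rw [h2 i, mul_zero]
  have e5 : ∀ v : Fin n → K, tr m' q v b + c * ∑ t, aeval x (pderiv t f) * v t = 0 := fun v => by
    have : tr m' q v b + c * ∑ t, aeval x (pderiv t f) * v t =
        ∑ t, v t * (∑ i, ∑ j, m' i j t * (q i * b j) + c * aeval x (pderiv t f)) := by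
      have e : tr m' q v b = ∑ t, v t * ∑ i, ∑ j, m' i j t * (q i * b j) := by
        unfold tr
        simp only [Finset.mul_sum]
        conv_rhs => rw [Finset.sum_comm]
        refine Finset.sum_congr rfl fun i _ => ?_
        conv_rhs => rw [Finset.sum_comm]
        refine Finset.sum_congr rfl fun j _ => Finset.sum_congr rfl fun t _ => ?_
        ring
      rw [e, Finset.mul_sum, ← Finset.sum_add_distrib]
      exact Finset.sum_congr rfl fun t _ => by ring
    rw [this]
    exact Finset.sum_eq_zero fun t _ => by rw [h5 t, mul_zero]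
  have hq : ∀ w : Fin p → K, ∑ i, q i * w i = 0 := by
    intro w
    obtain ⟨D, hD⟩ := Groth.Agent.Lefpen.H702.Generic.exists_derivation s hs w
    have f1 : ∀ i, w i = ∑ j, ∑ t, m' i j t * D (x t) * b j + ∑ j, ∑ t, m' i j t * x t * D (b j) := by
      intro i
      rw [← hD i, ← h1 i]
      simp only [map_sum, ← Finset.sum_add_distrib]
      refine Finset.sum_congr rfl fun j _ => Finset.sum_congr rfl fun t _ => ?_
      simp only [Derivation.leibniz, smul_eq_mul, Derivation.map_algebraMap, m']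
      ring
    have f2 : ∑ i, q i * w i = tr m' q (fun t => D (x t)) b + tr m' q x (fun j => D (b j)) := by
      rw [tr_eq_left, tr_eq_left, ← Finset.sum_add_distrib]
      refine Finset.sum_congr rfl fun i _ => ?_
      rw [f1 i]
      ring
    have f3 : tr m' q x (fun j => D (b j)) = 0 := by
      rw [tr_swap m' hm', e2, neg_zero]
    have f4 : ∑ t, aeval x (pderiv t f) * D (x t) = 0 := by
      rw [← Groth.Agent.Lefpen.H702.Generic.derivation_aeval, h3, map_zero]
    have f5 := e5 (fun t => D (x t))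
    rw [f4, mul_zero, add_zero] at f5
    rw [f2, f3, f5, add_zero]
  have h7 := hq u
  have h8 : ∑ i, q i * u i = 1 := by
    rw [← h6]
    exact Finset.sum_congr rfl fun i _ => mul_comm _ _
  rw [h8] at h7
  exact one_ne_zero h7

end Field

/-- **General sections on a hypersurface.** For a general vector `s`: if `M(x) b = s`, `q ∈ ker M(x)`,
`f(x) = 0` and `qᵀ M(v) b + c (df)_x(v) = 0` for all `v`, then `q = 0`. -/
theorem isGeneric_sect2 {k : Type u} [Field k] [CharZero k] {p n : ℕ} (m : Fin p → Fin p → Fin n → k)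
    (hm : ∀ i j t, m j i t = -m i j t) (f : MvPolynomial (Fin n) k) :
    IsGeneric k {s : Fin p → k | ∀ (x : Fin n → k) (b q : Fin p → k) (c : k),
      (∀ i, ∑ j, ∑ t, m i j t * x t * b j = s i) → (∀ i, ∑ j, ∑ t, m i j t * x t * q j = 0) →
      eval x f = 0 → (∀ t, ∑ i, ∑ j, m i j t * (q i * b j) + c * eval x (pderiv t f) = 0) → q = 0} := by
  classical
  have hinf : Infinite k := Infinite.of_injective (Nat.cast : ℕ → k) Nat.cast_injective
  -- unknowns: `x`, and `b, q, u` in this order, and `c`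
  let τ := (Fin n ⊕ (Fin 3 × Fin p)) ⊕ Unit
  let gx : Fin n → Fin p ⊕ τ := fun t => Sum.inr (Sum.inl (Sum.inl t))
  let vx : Fin n → MvPolynomial (Fin p ⊕ τ) k := fun t => X (gx t)
  let vv : Fin 3 → Fin p → MvPolynomial (Fin p ⊕ τ) k := fun e i => X (Sum.inr (Sum.inl (Sum.inr (e, i))))
  let vc : MvPolynomial (Fin p ⊕ τ) k := X (Sum.inr (Sum.inr ()))
  let S : Set (MvPolynomial (Fin p ⊕ τ) k) :=
    (Set.range fun i : Fin p => ∑ j, ∑ t, C (m i j t) * vx t * vv 0 j - X (Sum.inl i)) ∪
    (Set.range fun i : Fin p => ∑ j, ∑ t, C (m i j t) * vx t * vv 1 j) ∪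
    {rename gx f} ∪
    (Set.range fun t : Fin n => ∑ i, ∑ j, C (m i j t) * (vv 1 i * vv 0 j) + vc * rename gx (pderiv t f)) ∪
    {∑ i, vv 2 i * vv 1 i - 1}
  have hgx : ∀ {L : Type u} (y : Fin p → L) (P : τ → L), (Sum.elim y P) ∘ gx = fun t => P (Sum.inl (Sum.inl t)) :=
    fun _ _ => rfl
  refine Groth.Agent.Lefpen.H702.Engine.isGeneric_of_system (LinearEquiv.refl k (Fin p → k)) S ?_ ?_
  · intro K _ _ s P hS
    refine no_generic2 m hm f s (fun t => P (Sum.inl (Sum.inl t))) (fun j => P (Sum.inl (Sum.inr (0, j))))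
      (fun j => P (Sum.inl (Sum.inr (1, j)))) (fun j => P (Sum.inl (Sum.inr (2, j)))) (P (Sum.inr ())) ?_ ?_ ?_ ?_ ?_
    · intro i
      have := hS _ (Or.inl (Or.inl (Or.inl (Or.inl ⟨i, rfl⟩))))
      rw [map_sub, sub_eq_zero] at this
      simpa [vx, vv, gx] using this
    · intro i
      have := hS _ (Or.inl (Or.inl (Or.inl (Or.inr ⟨i, rfl⟩))))
      simpa [vx, vv, gx] using this
    · have := hS _ (Or.inl (Or.inl (Or.inr rfl)))
      rw [aeval_rename, hgx] at this
      exact this
    · intro t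
      have := hS _ (Or.inl (Or.inr ⟨t, rfl⟩))
      simp only [map_add, map_mul, aeval_rename, hgx, vv, vc, map_sum, aeval_X, Sum.elim_inr, algHom_C] at this
      exact this
    · have := hS _ (Or.inr rfl)
      rw [map_sub, sub_eq_zero] at this
      simpa [vx, vv] using this
  · intro s hs
    simp only [Set.mem_ofPred_eq, not_forall] at hs
    obtain ⟨x, b, q, c, h1, h2, h3, h5, hq⟩ := hs
    obtain ⟨i₀, hi₀⟩ := Function.ne_iff.1 hq
    rw [Pi.zero_apply] at hi₀
    refine ⟨Sum.elim (Sum.elim x fun e => (![b, q, Pi.single i₀ (q i₀)⁻¹] : Fin 3 → Fin p → k) e.1 e.2)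
      (fun _ => c), ?_⟩
    rintro Q ((((⟨i, rfl⟩ | ⟨i, rfl⟩) | hQ) | ⟨t, rfl⟩) | hQ)
    · simp only [map_sub, map_sum, map_mul, vx, vv, gx, aeval_X, Sum.elim_inl, Sum.elim_inr, sub_eq_zero,
        LinearEquiv.refl_apply, algHom_C, Algebra.algebraMap_self, RingHom.id_apply]
      exact h1 i
    · simp only [map_sum, map_mul, vx, vv, gx, aeval_X, Sum.elim_inl, Sum.elim_inr,
        LinearEquiv.refl_apply, algHom_C, Algebra.algebraMap_self, RingHom.id_apply]
      exact h2 i
    · rw [Set.mem_singleton_iff.1 hQ, aeval_rename, hgx]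
      exact h3
    · simp only [map_sum, map_mul, map_add, vv, vc, aeval_X, Sum.elim_inl, Sum.elim_inr,
        LinearEquiv.refl_apply, algHom_C, Algebra.algebraMap_self, RingHom.id_apply, aeval_rename, hgx]
      exact h5 t
    · rw [Set.mem_singleton_iff.1 hQ]
      simp only [map_sub, map_sum, map_mul, map_one, vv, aeval_X, Sum.elim_inl, Sum.elim_inr, sub_eq_zero]
      change ∑ i, (Pi.single i₀ (q i₀)⁻¹ : Fin p → k) i * q i = 1
      rw [Finset.sum_eq_single i₀]
      · rw [Pi.single_eq_same, inv_mul_cancel₀ hi₀]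
      · intro j _ hj
        rw [Pi.single_eq_of_ne hj, zero_mul]
      · intro h
        exact absurd (Finset.mem_univ _) h

end K409.PfGen
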