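import Groth.Agent.Fano.K409.Skew5
import Mathlib.LinearAlgebra.Dual.Lemmas
import Mathlib.LinearAlgebra.FiniteDimensional.Lemmas
import Mathlib.LinearAlgebra.Dimension.Constructions

/-!
# The gradients of the Pfaffians of a skew 5 × 5 matrix span a space of dimension at least three
-/

set_option autoImplicit false
universe u

namespace K409.Skew5

variable {k : Type u} [Field k]

open Module Submodule

/-- the vector of the polarised Pfaffians -/
def pv (m n : Fin 5 → Fin 5 → k) : Fin 5 → k :=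
  ![p4 m n 1 2 3 4, p4 m n 0 2 3 4, p4 m n 0 1 3 4, p4 m n 0 1 2 4, p4 m n 0 1 2 3]

theorem p4_sum (m : Fin 5 → Fin 5 → k) (N : Fin 5 → Fin 5 → Fin 5 → k) (v : Fin 5 → k) (a b c d : Fin 5) :
    p4 m (fun i j => ∑ t, v t * N i j t) a b c d = ∑ t, v t * p4 m (fun i j => N i j t) a b c d := by
  simp only [p4, Finset.mul_sum, Finset.sum_mul, ← Finset.sum_add_distrib, ← Finset.sum_sub_distrib]
  exact Finset.sum_congr rfl fun t _ => by ring

/-- A vector on which a linear form takes the value `a` in the common kernel of two others. -/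
theorem exists_vec (f₁ f₂ g : Fin 5 → k) (h : ∀ α β : k, g ≠ fun i => α * f₁ i + β * f₂ i) (a : k) :
    ∃ u : Fin 5 → k, ∑ i, f₁ i * u i = 0 ∧ ∑ i, f₂ i * u i = 0 ∧ ∑ i, g i * u i = a := by
  let F : (Fin 5 → k) → Dual k (Fin 5 → k) := fun f =>
    ∑ i, f i • (LinearMap.proj i : (Fin 5 → k) →ₗ[k] k)
  have hF : ∀ f u, F f u = ∑ i, f i * u i := fun f u => by
    simp only [F, LinearMap.sum_apply, LinearMap.smul_apply, LinearMap.proj_apply, smul_eq_mul]
  have hFs : ∀ f i, F f (Pi.single i 1) = f i := fun f i => by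
    rw [hF, Finset.sum_eq_single i]
    · simp
    · intro j _ hj; simp [hj]
    · simp
  by_contra hcon
  push Not at hcon
  have h0 : ∀ u : Fin 5 → k, F f₁ u = 0 → F f₂ u = 0 → F g u = 0 := by
    intro u h1 h2
    by_contra h3
    refine hcon ((a / F g u) • u) ?_ ?_ ?_
    · rw [← hF, map_smul, h1, smul_zero]
    · rw [← hF, map_smul, h2, smul_zero]
    · rw [← hF, map_smul, smul_eq_mul, div_mul_cancel₀ _ h3]
  have h1 : F g ∈ span k (Set.range ![F f₁, F f₂]) := by
    refine mem_span_of_iInf_ker_le_ker fun u hu => ?_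
    rw [Submodule.mem_iInf] at hu
    exact h0 u (hu 0) (hu 1)
  rw [Submodule.mem_span_range_iff_exists_fun] at h1
  obtain ⟨c, hc⟩ := h1
  refine h (c 0) (c 1) ?_
  funext i
  rw [← hFs g i, ← hc, Fin.sum_univ_two]
  simp only [Matrix.cons_val_zero, Matrix.cons_val_one, LinearMap.add_apply, LinearMap.smul_apply, smul_eq_mul, hFs]

/-- The common kernel of three linear forms on `k^5` has dimension at least two. -/
theorem two_le_ker (f : Fin 3 → Dual k (Fin 5 → k)) : 2 ≤ finrank k ↥(LinearMap.ker (LinearMap.pi f)) := by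
  have h := (LinearMap.pi f).finrank_range_add_finrank_ker
  have h1 : finrank k ↥(LinearMap.range (LinearMap.pi f)) ≤ 3 := by
    refine (Submodule.finrank_le _).trans ?_
    simp
  rw [finrank_fin_fun] at h
  omega

/-- **The main estimate.** -/
theorem three_le (h2 : (2 : k) ≠ 0) {m : Fin 5 → Fin 5 → k} (hm : ∀ i j, m i j = -m j i)
    (hq : ∀ a b c d, q4 m a b c d = 0) (N : Fin 5 → Fin 5 → Fin 5 → k) (hN : ∀ i j t, N i j t = -N j i t)
    (c : Fin 5 → k) (G : Fin 5 → Fin 5 → k) (hG : ∀ j t, G j t = pv m (fun a b => N a b t) j) (g : Fin 5 → k)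
    (hg : ∀ t, g t = c 0 * G 0 t - c 1 * G 1 t + c 2 * G 2 t - c 3 * G 3 t + c 4 * G 4 t) (hg0 : g ≠ 0)
    (hgen : ∀ (b q : Fin 5 → k) (γ : k), (∀ i, ∑ j, m i j * b j = 0) → ∑ j, c j * b j = -1 →
      (∀ i, ∑ j, m i j * q j = 0) → ∑ j, c j * q j = 0 →
      (∀ t, ∑ i, ∑ j, N i j t * (q i * b j) + γ * g t = 0) → q = 0) :
    3 ≤ finrank k ↥(span k (Set.range G)) := by
  classical
  obtain ⟨c0, d0, hcd⟩ : ∃ c0 d0, m c0 d0 ≠ 0 := by
    by_contra hcon
    push Not at hcon
    refine hg0 (funext fun t => ?_)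
    have hp : ∀ a b c d, p4 m (fun a b => N a b t) a b c d = 0 := fun a b c d => by
      simp only [p4, hcon, zero_mul, mul_zero, add_zero, sub_zero]
    rw [hg, hG, hG, hG, hG, hG]
    simp only [pv, hp, Pi.zero_apply]
    simp
  -- the vector `b`
  obtain ⟨b, hb1, hb2, hb3⟩ := exists_vec (m c0) (m d0) c (fun α β hαβ => hg0 (funext fun t => by
    have r1 := row_polar hm (n := fun a b => N a b t) (fun i j => hN i j t) h2 hq c0
    have r2 := row_polar hm (n := fun a b => N a b t) (fun i j => hN i j t) h2 hq d0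
    rw [hg, hG, hG, hG, hG, hG, hαβ]
    simp only [pv, Matrix.cons_val, Pi.zero_apply]
    linear_combination α * r1 + β * r2)) (-1)
  have hb : ∀ a, ∑ j, m a j * b j = 0 := ker_of_two hm hq hcd hb1 hb2
  -- the space of the `q`
  let F : (Fin 5 → k) → Dual k (Fin 5 → k) := fun f =>
    ∑ i, f i • (LinearMap.proj i : (Fin 5 → k) →ₗ[k] k)
  have hF : ∀ f u, F f u = ∑ i, f i * u i := fun f u => by
    simp only [F, LinearMap.sum_apply, LinearMap.smul_apply, LinearMap.proj_apply, smul_eq_mul]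
  let L : Submodule k (Fin 5 → k) := LinearMap.ker (LinearMap.pi ![F (m c0), F (m d0), F c])
  have hL : ∀ u ∈ L, (∀ a, ∑ j, m a j * u j = 0) ∧ ∑ j, c j * u j = 0 := by
    intro u hu
    rw [LinearMap.mem_ker] at hu
    have e0 := congrFun hu 0
    have e1 := congrFun hu 1
    have e2 := congrFun hu 2
    simp only [LinearMap.pi_apply, Matrix.cons_val, Pi.zero_apply, hF] at e0 e1 e2
    exact ⟨ker_of_two hm hq hcd e0 e1, e2⟩
  have hL2 : 2 ≤ finrank k ↥L := two_le_ker _
  -- the map
  let Ψ : (↥L × k) →ₗ[k] (Fin 5 → k) :=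
    { toFun := fun p t => ∑ i, ∑ j, N i j t * ((p.1 : Fin 5 → k) i * b j) + p.2 * g t
      map_add' := fun p p' => by
        funext t
        simp only [Prod.fst_add, Prod.snd_add, Submodule.coe_add, Pi.add_apply, add_mul, mul_add,
          Finset.sum_add_distrib]
        ring
      map_smul' := fun r p => by
        funext t
        simp only [Prod.smul_fst, Prod.smul_snd, Submodule.coe_smul, Pi.smul_apply, smul_eq_mul, RingHom.id_apply,
          mul_add, Finset.mul_sum]
        congr 1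
        · exact Finset.sum_congr rfl fun i _ => Finset.sum_congr rfl fun j _ => by ring
        · ring }
  have hΨ : ∀ p t, Ψ p t = ∑ i, ∑ j, N i j t * ((p.1 : Fin 5 → k) i * b j) + p.2 * g t := fun _ _ => rfl
  have hinj : Function.Injective Ψ := by
    rw [injective_iff_map_eq_zero]
    rintro ⟨q, γ⟩ hp
    have hz : ∀ t, ∑ i, ∑ j, N i j t * ((q : Fin 5 → k) i * b j) + γ * g t = 0 := fun t => by
      rw [← hΨ (q, γ) t, hp, Pi.zero_apply]
    have hq0 : (q : Fin 5 → k) = 0 := hgen b q γ hb hb3 (hL q q.2).1 (hL q q.2).2 hz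
    have hγ : γ = 0 := by
      obtain ⟨t, ht⟩ := Function.ne_iff.1 hg0
      have := hz t
      rw [hq0] at this
      simp only [Pi.zero_apply, zero_mul, mul_zero, Finset.sum_const_zero, zero_add] at this
      exact (mul_eq_zero.1 this).resolve_right ht
    rw [Prod.mk_eq_zero]
    exact ⟨Subtype.ext hq0, hγ⟩
  have hrange : LinearMap.range Ψ ≤ span k (Set.range G) := by
    rintro _ ⟨⟨q, γ⟩, rfl⟩
    by_contra hcon
    obtain ⟨φ, hφ1, hφ2⟩ := Submodule.exists_le_ker_of_notMem hcon
    let v : Fin 5 → k := fun t => φ (Pi.single t 1)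
    have hv : ∀ z, φ z = ∑ t, v t * z t := fun z => by
      rw [LinearMap.pi_apply_eq_sum_univ φ z]
      refine Finset.sum_congr rfl fun t _ => ?_
      rw [smul_eq_mul, mul_comm]
      congr 2
      funext s
      simp [Pi.single_apply, eq_comm]
    have hGv : ∀ j, ∑ t, v t * G j t = 0 := fun j => by
      rw [← hv]
      exact hφ2 (subset_span ⟨j, rfl⟩)
    have hnv : ∀ i j, (∑ t, v t * N i j t) = -∑ t, v t * N j i t := fun i j => by
      rw [← Finset.sum_neg_distrib]
      exact Finset.sum_congr rfl fun t _ => by rw [hN i j t]; ring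
    have hpv : ∀ j, pv m (fun i j => ∑ t, v t * N i j t) j = 0 := by
      intro j
      rw [← hGv j]
      simp only [hG]
      fin_cases j <;> exact p4_sum _ _ _ _ _ _ _
    have hp4 := p4_zero hm hnv h2 (hpv 0) (hpv 1) (hpv 2) (hpv 3) (hpv 4)
    have hpk := polar_ker hm (n := fun i j => ∑ t, v t * N i j t) hp4 hcd (hL q q.2).1 hb
    apply hφ1
    rw [hv]
    simp only [hΨ, mul_add, Finset.sum_add_distrib]
    have e1 : ∑ t, v t * ∑ i, ∑ j, N i j t * ((q : Fin 5 → k) i * b j) = 0 := by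
      rw [← hpk]
      simp only [Finset.mul_sum, Finset.sum_mul]
      rw [Finset.sum_comm]
      refine Finset.sum_congr rfl fun i _ => ?_
      rw [Finset.sum_comm]
      exact Finset.sum_congr rfl fun j _ => Finset.sum_congr rfl fun t _ => by ring
    have e2 : ∑ t, v t * (γ * g t) = 0 := by
      have : ∑ t, v t * (γ * g t) = γ * (c 0 * ∑ t, v t * G 0 t - c 1 * ∑ t, v t * G 1 t + c 2 * ∑ t, v t * G 2 t -
          c 3 * ∑ t, v t * G 3 t + c 4 * ∑ t, v t * G 4 t) := by
        simp only [Finset.mul_sum, ← Finset.sum_add_distrib, ← Finset.sum_sub_distrib]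
        exact Finset.sum_congr rfl fun t _ => by rw [hg]; ring
      rw [this, hGv, hGv, hGv, hGv, hGv]
      ring
    rw [e1, e2, add_zero]
  have h3 : finrank k (↥L × k) = finrank k ↥L + 1 := by
    rw [finrank_prod, finrank_self]
  calc 3 ≤ finrank k (↥L × k) := by omega
    _ = finrank k ↥(LinearMap.range Ψ) := (LinearMap.finrank_range_of_inj hinj).symm
    _ ≤ _ := Submodule.finrank_mono hrange

end K409.Skew5
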