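import Groth.Agent.Fano.K255.PfDef
import Groth.Agent.Fano.K409.PfGen2
import Groth.Agent.Fano.K409.SkewSpan
import Groth.Agent.Fano.K714.Surf
import Groth.Agent.Cubic.K656.Trilin

/-!
# A general section of the instanton bundle vanishes on a smooth curve (I6 for S16528)

`exists_jacE`: a smooth cubic threefold with a Pfaffian representation has one such that the five quadrics
satisfy the Jacobian criterion at every point.
-/

set_option autoImplicit false
universe u

namespace K409.JacE

open K255.Pf MvPolynomial Module Submodule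
open Groth.Agent.Fano.K714.Rat Groth.Agent.Fano.K714.Quart Groth.Agent.Fano.K715.Quint

/-! ### Change of the last basis vector -/

section Twist

variable {k : Type u} [Field k]

/-- `P N Pᵀ` with `P = 1 - r e₅ᵀ` (for a skew matrix `N`) -/
def tw (r : Fin 6 → k) (N : Fin 6 → Fin 6 → k) (i j : Fin 6) : k := N i j - r i * N 5 j - r j * N i 5

/-- `Pᵀ b` -/
def tv (r b : Fin 6 → k) : Fin 6 → k := fun j => b j - (∑ i, r i * b i) * (Pi.single 5 1 : Fin 6 → k) j

theorem sum_tv (r b a : Fin 6 → k) : ∑ j, a j * tv r b j = ∑ j, a j * b j - (∑ i, r i * b i) * a 5 := by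
  unfold tv
  have : ∀ j, a j * (b j - (∑ i, r i * b i) * (Pi.single 5 1 : Fin 6 → k) j) =
      a j * b j - (∑ i, r i * b i) * (a j * (Pi.single 5 1 : Fin 6 → k) j) := fun j => by ring
  simp only [this, Finset.sum_sub_distrib, ← Finset.mul_sum]
  congr 2
  rw [Finset.sum_eq_single 5]
  · simp
  · intro j _ hj; simp [hj]
  · simp

theorem tw_mul (r : Fin 6 → k) (N : Fin 6 → Fin 6 → k) (h5 : N 5 5 = 0) (b : Fin 6 → k) (i : Fin 6) :
    ∑ j, tw r N i j * b j = ∑ j, N i j * tv r b j - r i * ∑ j, N 5 j * tv r b j := by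
  rw [sum_tv, sum_tv, h5, mul_zero, sub_zero]
  have : ∀ j, tw r N i j * b j = N i j * b j - r i * (N 5 j * b j) - N i 5 * (r j * b j) := fun j => by
    unfold tw; ring
  simp only [this, Finset.sum_sub_distrib, ← Finset.mul_sum]
  ring

theorem tw_bil (r : Fin 6 → k) (N : Fin 6 → Fin 6 → k) (h5 : N 5 5 = 0) (q b : Fin 6 → k) :
    ∑ i, ∑ j, tw r N i j * (q i * b j) = ∑ i, ∑ j, N i j * (tv r q i * tv r b j) := by
  have e1 : ∀ i, ∑ j, tw r N i j * (q i * b j) =
      (∑ j, N i j * tv r b j) * q i - (r i * q i) * ∑ j, N 5 j * tv r b j := fun i => by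
    have : ∑ j, tw r N i j * (q i * b j) = q i * ∑ j, tw r N i j * b j := by
      rw [Finset.mul_sum]
      exact Finset.sum_congr rfl fun j _ => by ring
    rw [this, tw_mul r N h5]
    ring
  have e2 : ∀ i, ∑ j, N i j * (tv r q i * tv r b j) = (∑ j, N i j * tv r b j) * tv r q i := fun i => by
    rw [Finset.sum_mul]
    exact Finset.sum_congr rfl fun j _ => by ring
  simp only [e1, e2]
  rw [sum_tv r q, Finset.sum_sub_distrib, ← Finset.sum_mul]

theorem pf6_tw (r : Fin 6 → k) (hr : r 5 = 0) (N : Fin 6 → Fin 6 → k) (hN : ∀ i j, N i j = -N j i) (h5 : N 5 5 = 0) :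
    pf6 (tw r N) = pf6 N := by
  unfold pf6 pf4 tw
  rw [hN 5 1, hN 5 2, hN 5 3, hN 5 4, hr, h5]
  ring

theorem tv_eq_zero (r : Fin 6 → k) (hr : r 5 = 0) (q : Fin 6 → k) (h : tv r q = 0) : q = 0 := by
  have e : ∀ j, q j = (∑ i, r i * q i) * (Pi.single 5 1 : Fin 6 → k) j := fun j => by
    have := congrFun h j
    simp only [tv, Pi.zero_apply, sub_eq_zero] at this
    exact this
  have e0 : ∑ i, r i * q i = 0 := by
    refine Finset.sum_eq_zero fun i _ => ?_
    rw [e i]
    by_cases hi : i = 5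
    · rw [hi, hr, zero_mul]
    · simp [hi]
  funext j
  rw [e j, e0, zero_mul, Pi.zero_apply]

end Twist

/-! ### The generic property -/

section Gen

variable {k : Type u} [Field k]

/-- `s` is a general section. -/
def GenS (f : MvPolynomial (Fin 5) k) (M : DataE k) (s : Fin 6 → k) : Prop :=
  ∀ (x : Fin 5 → k) (b q : Fin 6 → k) (c : k),
    (∀ i, ∑ j, valE M x i j * b j = s i) → (∀ i, ∑ j, valE M x i j * q j = 0) → eval x f = 0 →
      (∀ t, ∑ i, ∑ j, M i j t * (q i * b j) + c * eval x (pderiv t f) = 0) → q = 0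

theorem exists_genS [CharZero k] (f : MvPolynomial (Fin 5) k) (M : DataE k) (hM : ∀ i j, M i j = -M j i) :
    ∃ s : Fin 6 → k, s 5 = 1 ∧ GenS f M s := by
  have hinf : Infinite k := Infinite.of_injective (Nat.cast : ℕ → k) Nat.cast_injective
  have hm : ∀ i j t, M j i t = -M i j t := fun i j t => by rw [hM j i]; rfl
  have h1 := PfGen.isGeneric_sect2 M hm f
  have h2 : LefPen.IsGeneric k {s : Fin 6 → k | s 5 ≠ 0} := by
    refine Groth.Agent.Lefpen.H702.PolyFun.isGeneric_of_mvPolynomial (LinearEquiv.refl k (Fin 6 → k))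
      (f := X 5) (X_ne_zero _) fun v hv => ?_
    simpa using hv
  obtain ⟨s, hs, hs5⟩ := Groth.Agent.Lefpen.H702.PolyFun.IsGeneric.nonempty
    (Groth.Agent.Lefpen.H702.PolyFun.IsGeneric.inter h1 h2)
  rw [Set.mem_ofPred_eq] at hs hs5
  refine ⟨fun i => (s 5)⁻¹ * s i, inv_mul_cancel₀ hs5, ?_⟩
  intro x b q c hb hq hf hc
  have hv : ∀ (b : Fin 6 → k) i, ∑ j, ∑ t, M i j t * x t * b j = ∑ j, valE M x i j * b j := fun b i =>
    Finset.sum_congr rfl fun j _ => by rw [valE, Finset.sum_mul]
  refine hs x (fun j => s 5 * b j) q (s 5 * c) ?_ ?_ hf ?_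
  · intro i
    rw [hv]
    have : ∑ j, valE M x i j * (s 5 * b j) = s 5 * ∑ j, valE M x i j * b j := by
      rw [Finset.mul_sum]
      exact Finset.sum_congr rfl fun j _ => by ring
    rw [this, hb i, mul_inv_cancel_left₀ hs5]
  · intro i
    rw [hv, hq]
  · intro t
    have : ∑ i, ∑ j, M i j t * (q i * (s 5 * b j)) + s 5 * c * eval x (pderiv t f) =
        s 5 * (∑ i, ∑ j, M i j t * (q i * b j) + c * eval x (pderiv t f)) := by
      rw [mul_add, Finset.mul_sum]
      congr 1
      · refine Finset.sum_congr rfl fun i _ => ?_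
        rw [Finset.mul_sum]
        exact Finset.sum_congr rfl fun j _ => by ring
      · ring
    rw [this, hc t, mul_zero]

/-- One may take the last basis vector as a general section. -/
theorem exists_genE [CharZero k] (f : MvPolynomial (Fin 5) k) (M₁ : DataE k) (hM₁ : M₁ ∈ PP f) :
    ∃ M ∈ PP f, GenS f M (Pi.single 5 1) := by
  have hinf : Infinite k := Infinite.of_injective (Nat.cast : ℕ → k) Nat.cast_injective
  rw [mem_PP_iff] at hM₁
  obtain ⟨hsk, hpf⟩ := hM₁
  obtain ⟨s, hs5, hs⟩ := exists_genS f M₁ hsk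
  have h2 : (2 : k) ≠ 0 := two_ne_zero
  have hz : ∀ z : k, z = -z → z = 0 := by
    intro z hz
    have : 2 * z = 0 := by linear_combination hz
    exact (mul_eq_zero.1 this).resolve_left h2
  have h55 : ∀ t, M₁ 5 5 t = 0 := fun t => hz _ (congrFun (hsk 5 5) t)
  let r : Fin 6 → k := fun i => s i - (Pi.single 5 1 : Fin 6 → k) i
  have hr5 : r 5 = 0 := by simp [r, hs5]
  have hrs : ∀ i, s i = (Pi.single 5 1 : Fin 6 → k) i + r i := fun i => by simp [r]
  let M : DataE k := fun i j t => tw r (fun a b => M₁ a b t) i j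
  have hval : ∀ x, valE M x = tw r (valE M₁ x) := fun x => by
    funext i j
    simp only [valE, M, tw, sub_mul, Finset.sum_sub_distrib, Finset.mul_sum, mul_assoc]
  have hvs : ∀ x i j, valE M₁ x i j = -valE M₁ x j i := fun x i j => by
    simp only [valE, ← Finset.sum_neg_distrib]
    exact Finset.sum_congr rfl fun t _ => by rw [hsk i j, Pi.neg_apply]; ring
  have hv5 : ∀ x, valE M₁ x 5 5 = 0 := fun x => hz _ (hvs x 5 5)
  refine ⟨M, (mem_PP_iff f M).2 ⟨fun i j => ?_, fun x => ?_⟩, ?_⟩
  · funext t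
    simp only [M, tw, Pi.neg_apply]
    rw [hsk i j, hsk i 5, hsk 5 j]
    simp only [Pi.neg_apply]
    ring
  · rw [hval, pf6_tw r hr5 _ (hvs x) (hv5 x), hpf]
  · intro x b q c hb hq hf hc
    rw [hval] at hb hq
    have hb' : ∀ i, ∑ j, valE M₁ x i j * tv r b j = s i := by
      have h5 : ∑ j, valE M₁ x 5 j * tv r b j = 1 := by
        have := hb 5
        rw [tw_mul r _ (hv5 x), hr5, zero_mul, sub_zero] at this
        rw [this, Pi.single_eq_same]
      intro i
      have := hb i
      rw [tw_mul r _ (hv5 x), h5, mul_one, sub_eq_iff_eq_add] at this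
      rw [this, hrs]
    have hq' : ∀ i, ∑ j, valE M₁ x i j * tv r q j = 0 := by
      have h5 : ∑ j, valE M₁ x 5 j * tv r q j = 0 := by
        have := hq 5
        rw [tw_mul r _ (hv5 x), hr5, zero_mul, sub_zero] at this
        exact this
      intro i
      have := hq i
      rw [tw_mul r _ (hv5 x), h5, mul_zero, sub_zero] at this
      exact this
    refine tv_eq_zero r hr5 q (hs x (tv r b) (tv r q) c hb' hq' hf fun t => ?_)
    rw [← tw_bil r (fun a b => M₁ a b t) (h55 t)]
    exact hc t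

end Gen

/-! ### The Jacobian criterion -/

section Jac

variable {k : Type u} [Field k]

theorem lin_eq (v : Fin 5 → k) : (lin v).1 = ∑ i, C (v i) * X i := by
  simp [lin, MvPolynomial.smul_eq_C_mul]

theorem pderiv_lin (v : Fin 5 → k) (t : Fin 5) : pderiv t (lin v).1 = C (v t) := by
  classical
  rw [lin_eq, map_sum, Finset.sum_eq_single t]
  · simp
  · intro j _ hj
    simp [pderiv_X_of_ne hj]
  · simp

theorem pderiv_matE (M : DataE k) (i j : Fin 6) (t : Fin 5) : pderiv t (matE M i j) = C (M i j t) := pderiv_lin _ _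

/-- polar form for `6 × 6` matrices -/
def p6 (m n : Fin 6 → Fin 6 → k) (a b c d : Fin 6) : k :=
  m a b * n c d + n a b * m c d - m a c * n b d - n a c * m b d + m a d * n b c + n a d * m b c

theorem pderiv_pf4 (M : DataE k) (x : Fin 5 → k) (t : Fin 5) (a b c d : Fin 6) :
    eval x (pderiv t (pf4 (matE M) a b c d)) = p6 (valE M x) (fun i j => M i j t) a b c d := by
  simp only [pf4, map_add, map_sub, Derivation.leibniz, pderiv_matE, smul_eq_mul, map_mul, eval_matE, eval_C, p6]
  ring

theorem pderiv_pf6 (M : DataE k) (x : Fin 5 → k) (t : Fin 5)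
    (h0 : pf4 (valE M x) 1 2 3 4 = 0) (h1 : pf4 (valE M x) 0 2 3 4 = 0) (h2 : pf4 (valE M x) 0 1 3 4 = 0)
    (h3 : pf4 (valE M x) 0 1 2 4 = 0) (h4 : pf4 (valE M x) 0 1 2 3 = 0) :
    eval x (pderiv t (pf6 (matE M))) =
      valE M x 0 5 * p6 (valE M x) (fun i j => M i j t) 1 2 3 4 - valE M x 1 5 * p6 (valE M x) (fun i j => M i j t) 0 2 3 4 +
      valE M x 2 5 * p6 (valE M x) (fun i j => M i j t) 0 1 3 4 - valE M x 3 5 * p6 (valE M x) (fun i j => M i j t) 0 1 2 4 +
      valE M x 4 5 * p6 (valE M x) (fun i j => M i j t) 0 1 2 3 := by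
  have hq : ∀ a b c d, eval x (pf4 (matE M) a b c d) = pf4 (valE M x) a b c d := fun a b c d => by
    rw [map_pf4]
    simp only [eval_matE]
  simp only [pf6, map_add, map_sub, Derivation.leibniz, pderiv_matE, smul_eq_mul, map_mul, eval_matE, eval_C,
    pderiv_pf4, hq, h0, h1, h2, h3, h4, zero_mul, add_zero]

theorem exists_jacE [CharZero k] (f : MvPolynomial (Fin 5) k) (hf : f.IsHomogeneous 3)
    (hsm : K714.Surf.SmoothOn (K656.Trilin.tri f) ⊤) (h : (PP f).Nonempty) :
    ∃ M ∈ PP f, ∀ x : Fin 5 → k, x ≠ 0 → (∀ j, MvPolynomial.eval x (qE M j).1 = 0) →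
      3 ≤ Module.finrank k ↥(Submodule.span k (Set.range fun j : Fin 5 => fun i : Fin 5 =>
        MvPolynomial.eval x (MvPolynomial.pderiv i (qE M j).1))) := by
  have hinf : Infinite k := Infinite.of_injective (Nat.cast : ℕ → k) Nat.cast_injective
  obtain ⟨M₁, hM₁⟩ := h
  obtain ⟨M, hM, hgen⟩ := exists_genE f M₁ hM₁
  refine ⟨M, hM, fun x hx hq => ?_⟩
  have h2 : (2 : k) ≠ 0 := two_ne_zero
  have hsk := hM.1
  have hpf := ((mem_PP_iff f M).1 hM).2 x
  have hvs : ∀ i j, valE M x i j = -valE M x j i := fun i j => by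
    simp only [valE, ← Finset.sum_neg_distrib]
    exact Finset.sum_congr rfl fun t _ => by rw [hsk i j, Pi.neg_apply]; ring
  have hev : ∀ a b c d, eval x (qf4 M a b c d).1 = pf4 (valE M x) a b c d := fun a b c d => by
    rw [qf4_val, map_pf4]
    simp only [eval_matE]
  have q0 : pf4 (valE M x) 1 2 3 4 = 0 := (hev _ _ _ _).symm.trans (hq 0)
  have q1 : pf4 (valE M x) 0 2 3 4 = 0 := (hev _ _ _ _).symm.trans (hq 1)
  have q2 : pf4 (valE M x) 0 1 3 4 = 0 := (hev _ _ _ _).symm.trans (hq 2)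
  have q3 : pf4 (valE M x) 0 1 2 4 = 0 := (hev _ _ _ _).symm.trans (hq 3)
  have q4' : pf4 (valE M x) 0 1 2 3 = 0 := (hev _ _ _ _).symm.trans (hq 4)
  have hfx : eval x f = 0 := by
    rw [← hpf, pf6, q0, q1, q2, q3, q4']
    ring
  -- the block
  let m : Fin 5 → Fin 5 → k := fun i j => valE M x i.castSucc j.castSucc
  have hm : ∀ i j, m i j = -m j i := fun i j => hvs _ _
  have hm4 : ∀ a b c d, Skew5.q4 m a b c d = 0 := Skew5.q4_zero hm h2 q0 q1 q2 q3 q4'
  refine Skew5.three_le h2 hm hm4 (fun i j t => M i.castSucc j.castSucc t)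
    (fun i j t => by rw [hsk]; rfl) (fun i => valE M x i.castSucc 5) _ ?_ (fun t => eval x (pderiv t f)) ?_ ?_ ?_
  · intro j t
    fin_cases j <;> exact pderiv_pf4 M x t _ _ _ _
  · intro t
    have hf' : pf6 (matE M) = f := hM.2
    rw [← hf', pderiv_pf6 M x t q0 q1 q2 q3 q4']
    have e : ∀ a b c d, eval x (pderiv t (qf4 M a b c d).1) = p6 (valE M x) (fun i j => M i j t) a b c d :=
      fun a b c d => pderiv_pf4 M x t a b c d
    simp only [← e]
    rfl
  · intro h0
    obtain ⟨w, -, hw⟩ := hsm x Submodule.mem_top hx (by rw [K656.Trilin.tri_diag hf, hfx])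
    apply hw
    have h3 : (3 : k) ≠ 0 := three_ne_zero
    apply (mul_eq_zero.1 (?_ : (3 : k) * _ = 0)).resolve_left h3
    rw [K656.Trilin.tri_pderiv hf]
    exact Finset.sum_eq_zero fun l _ => by rw [show eval x (pderiv l f) = 0 from congrFun h0 l, mul_zero]
  · intro b q γ hb1 hb2 hq1 hq2 hγ
    have h55 : valE M x 5 5 = 0 := by
      have h := hvs 5 5
      have : 2 * valE M x 5 5 = 0 := by linear_combination h
      exact (mul_eq_zero.1 this).resolve_left h2
    let e : (Fin 5 → k) → Fin 6 → k := fun b => Fin.snoc (α := fun _ => k) b 0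
    have he : ∀ b (i : Fin 5), e b i.castSucc = b i := fun b i => by simp [e]
    have he5 : ∀ b, e b (Fin.last 5) = 0 := fun b => Fin.snoc_last (α := fun _ => k) _ _
    have hs : ∀ (a : Fin 6 → k) b, ∑ j, a j * e b j = ∑ j : Fin 5, a j.castSucc * b j := fun a b => by
      rw [Fin.sum_univ_castSucc]
      simp only [he, he5, mul_zero, add_zero]
    have hrow : ∀ b, (∀ i, ∑ j, m i j * b j = 0) → ∀ i, ∑ j, valE M x i j * e b j =
        (Pi.single 5 (-∑ j : Fin 5, valE M x j.castSucc 5 * b j) : Fin 6 → k) i := by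
      intro b hb i
      rw [hs]
      refine Fin.lastCases ?_ (fun i => ?_) i
      · rw [show Fin.last 5 = (5 : Fin 6) from rfl, Pi.single_eq_same, ← Finset.sum_neg_distrib]
        exact Finset.sum_congr rfl fun j _ => by rw [hvs 5 j.castSucc]; ring
      · rw [Pi.single_eq_of_ne (show i.castSucc ≠ (5 : Fin 6) from (Fin.castSucc_lt_last i).ne)]
        exact hb i
    have hq0 : e q = 0 := by
      refine hgen x (e b) (e q) γ ?_ ?_ hfx ?_
      · intro i
        rw [hrow b hb1, hb2, neg_neg]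
      · intro i
        rw [hrow q hq1, hq2, neg_zero, Pi.single_zero, Pi.zero_apply]
      · intro t
        rw [← hγ t]
        congr 1
        have : ∀ i, ∑ j, M i j t * (e q i * e b j) = (∑ j : Fin 5, M i j.castSucc t * b j) * e q i := fun i => by
          rw [← hs (fun j => M i j t) b, Finset.sum_mul]
          exact Finset.sum_congr rfl fun j _ => by ring
        simp only [this]
        rw [hs (fun i => ∑ j : Fin 5, M i j.castSucc t * b j) q]
        refine Finset.sum_congr rfl fun i _ => ?_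
        rw [Finset.sum_mul]
        exact Finset.sum_congr rfl fun j _ => by ring
    funext i
    rw [← he q i, hq0, Pi.zero_apply, Pi.zero_apply]

end Jac

end K409.JacE
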