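import Groth.Agent.Lefpen.H702.Engine

/-!
# General sections of the cokernel of a skew 6 × 6 matrix of linear forms (characteristic zero)

`m : Fin 6 → Fin 6 → Fin 5 → k` skew in the first two indices, `tr m a x b = ∑ m i j t a i x t b j` (`= aᵀ M(x) b`).

`isGeneric_sect`: for a general vector `s`, if `M(x) b = s` and `q, q₁, q₂ ∈ ker M(x)` satisfy
`qᵀ M(v) b + q₁ᵀ M(v) q₂ = 0` for all `v`, then `q = 0` (derivations of a generic `s`).
-/

set_option autoImplicit false
universe u

namespace K409.PfGen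

open MvPolynomial LefPen

/-- the trilinear form `aᵀ M(x) b` -/
def tr {R : Type*} [CommRing R] {p n : ℕ} (m : Fin p → Fin p → Fin n → R) (a : Fin p → R) (x : Fin n → R)
    (b : Fin p → R) : R := ∑ i, ∑ j, ∑ t, m i j t * a i * x t * b j

section Basic

variable {R : Type*} [CommRing R] {p n : ℕ} (m : Fin p → Fin p → Fin n → R)

theorem tr_swap (hm : ∀ i j t, m j i t = -m i j t) (a b : Fin p → R) (x : Fin n → R) :
    tr m b x a = -tr m a x b := by
  unfold tr
  rw [Finset.sum_comm, ← Finset.sum_neg_distrib]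
  refine Finset.sum_congr rfl fun i _ => ?_
  rw [← Finset.sum_neg_distrib]
  refine Finset.sum_congr rfl fun j _ => ?_
  rw [← Finset.sum_neg_distrib]
  refine Finset.sum_congr rfl fun t _ => ?_
  rw [hm i j t]
  ring

theorem tr_eq_left (a : Fin p → R) (x : Fin n → R) (b : Fin p → R) :
    tr m a x b = ∑ i, a i * ∑ j, ∑ t, m i j t * x t * b j := by
  unfold tr
  refine Finset.sum_congr rfl fun i _ => ?_
  simp only [Finset.mul_sum]
  refine Finset.sum_congr rfl fun j _ => Finset.sum_congr rfl fun t _ => ?_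
  ring

theorem tr_single_left (i : Fin p) (x : Fin n → R) (b : Fin p → R) :
    tr m (Pi.single i 1) x b = ∑ j, ∑ t, m i j t * x t * b j := by
  classical
  rw [tr_eq_left, Finset.sum_eq_single i]
  · simp
  · intro j _ hj
    simp [hj]
  · simp

/-- Leibniz rule. -/
theorem tr_deriv {k : Type*} [CommRing k] [Algebra k R] (D : Derivation k R R) (hD : ∀ i j t, D (m i j t) = 0)
    (a : Fin p → R) (x : Fin n → R) (b : Fin p → R) :
    D (tr m a x b) = tr m (fun i => D (a i)) x b + tr m a (fun t => D (x t)) b + tr m a x (fun j => D (b j)) := by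
  unfold tr
  simp only [map_sum, ← Finset.sum_add_distrib]
  refine Finset.sum_congr rfl fun i _ => Finset.sum_congr rfl fun j _ => Finset.sum_congr rfl fun t _ => ?_
  simp only [Derivation.leibniz, smul_eq_mul, hD]
  ring

end Basic

section Field

variable {k K : Type*} [Field k] [Field K] [Algebra k K] [CharZero k]

/-- A generic vector. -/
theorem no_generic {p n : ℕ} (m : Fin p → Fin p → Fin n → k) (hm : ∀ i j t, m j i t = -m i j t) (s : Fin p → K)
    (x : Fin n → K) (b q q₁ q₂ u : Fin p → K)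
    (h1 : ∀ i, ∑ j, ∑ t, algebraMap k K (m i j t) * x t * b j = s i)
    (h2 : ∀ i, ∑ j, ∑ t, algebraMap k K (m i j t) * x t * q j = 0)
    (h3 : ∀ i, ∑ j, ∑ t, algebraMap k K (m i j t) * x t * q₁ j = 0)
    (h4 : ∀ i, ∑ j, ∑ t, algebraMap k K (m i j t) * x t * q₂ j = 0)
    (h5 : ∀ t, ∑ i, ∑ j, algebraMap k K (m i j t) * (q i * b j + q₁ i * q₂ j) = 0)
    (h6 : ∑ i, u i * q i = 1) : ¬ AlgebraicIndependent k s := by
  intro hs
  classical
  let m' : Fin p → Fin p → Fin n → K := fun i j t => algebraMap k K (m i j t)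
  have hm' : ∀ i j t, m' j i t = -m' i j t := fun i j t => by
    simp only [m', hm i j t, map_neg]
  have e1 : ∀ a, tr m' a x b = ∑ i, a i * s i := fun a => by
    rw [tr_eq_left]
    exact Finset.sum_congr rfl fun i _ => by rw [h1 i]
  have e2 : ∀ a, tr m' a x q = 0 := fun a => by
    rw [tr_eq_left]
    exact Finset.sum_eq_zero fun i _ => by rw [h2 i, mul_zero]
  have e3 : ∀ a, tr m' a x q₁ = 0 := fun a => by
    rw [tr_eq_left]
    exact Finset.sum_eq_zero fun i _ => by rw [h3 i, mul_zero]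
  have e4 : ∀ a, tr m' a x q₂ = 0 := fun a => by
    rw [tr_eq_left]
    exact Finset.sum_eq_zero fun i _ => by rw [h4 i, mul_zero]
  have e5 : ∀ v, tr m' q v b + tr m' q₁ v q₂ = 0 := fun v => by
    have : tr m' q v b + tr m' q₁ v q₂ = ∑ t, v t * ∑ i, ∑ j, m' i j t * (q i * b j + q₁ i * q₂ j) := by
      unfold tr
      simp only [← Finset.sum_add_distrib, Finset.mul_sum]
      conv_rhs => rw [Finset.sum_comm]
      refine Finset.sum_congr rfl fun i _ => ?_
      conv_rhs => rw [Finset.sum_comm]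
      refine Finset.sum_congr rfl fun j _ => Finset.sum_congr rfl fun t _ => ?_
      ring
    rw [this]
    exact Finset.sum_eq_zero fun t _ => by rw [h5 t, mul_zero]
  have hq : ∀ w : Fin p → K, ∑ i, q i * w i = 0 := by
    intro w
    obtain ⟨D, hD⟩ := Groth.Agent.Lefpen.H702.Generic.exists_derivation s hs w
    have hDm : ∀ i j t, D (m' i j t) = 0 := fun i j t => D.map_algebraMap _
    -- pairing the derivative of `M(x) b = s` with `q`
    have f1 : ∀ i, w i = ∑ j, ∑ t, m' i j t * D (x t) * b j + ∑ j, ∑ t, m' i j t * x t * D (b j) := by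
      intro i
      rw [← hD i, ← h1 i]
      simp only [map_sum, ← Finset.sum_add_distrib]
      refine Finset.sum_congr rfl fun j _ => Finset.sum_congr rfl fun t _ => ?_
      simp only [Derivation.leibniz, smul_eq_mul, Derivation.map_algebraMap, m']
      ring
    have f2 : ∑ i, q i * w i = tr m' q (fun t => D (x t)) b + tr m' q x (fun j => D (b j)) := by
      rw [tr_eq_left, tr_eq_left, ← Finset.sum_add_distrib]
      refine Finset.sum_congr rfl fun i _ => ?_
      rw [f1 i]
      ring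
    have f3 : tr m' q x (fun j => D (b j)) = 0 := by
      rw [tr_swap m' hm', e2, neg_zero]
    -- derivative of `M(x) q₂ = 0` paired with `q₁`
    have f4 : tr m' q₁ (fun t => D (x t)) q₂ = 0 := by
      have g1 := tr_deriv m' D hDm q₁ x q₂
      rw [e4, map_zero, e4, zero_add, tr_swap m' hm' _ q₁ x, e3, neg_zero, add_zero] at g1
      exact g1.symm
    have f5 := e5 (fun t => D (x t))
    rw [f4, add_zero] at f5
    rw [f2, f3, f5, add_zero]
  have h7 := hq u
  have h8 : ∑ i, q i * u i = 1 := by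
    rw [← h6]
    exact Finset.sum_congr rfl fun i _ => mul_comm _ _
  rw [h8] at h7
  exact one_ne_zero h7

end Field

/-- **General sections.** For a general vector `s`: if `M(x) b = s`, `q, q₁, q₂ ∈ ker M(x)` and
`qᵀ M(v) b + q₁ᵀ M(v) q₂ = 0` for all `v`, then `q = 0`. -/
theorem isGeneric_sect {k : Type u} [Field k] [CharZero k] {p n : ℕ} (m : Fin p → Fin p → Fin n → k)
    (hm : ∀ i j t, m j i t = -m i j t) :
    IsGeneric k {s : Fin p → k | ∀ (x : Fin n → k) (b q q₁ q₂ : Fin p → k),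
      (∀ i, ∑ j, ∑ t, m i j t * x t * b j = s i) → (∀ i, ∑ j, ∑ t, m i j t * x t * q j = 0) →
      (∀ i, ∑ j, ∑ t, m i j t * x t * q₁ j = 0) → (∀ i, ∑ j, ∑ t, m i j t * x t * q₂ j = 0) →
      (∀ t, ∑ i, ∑ j, m i j t * (q i * b j + q₁ i * q₂ j) = 0) → q = 0} := by
  classical
  have hinf : Infinite k := Infinite.of_injective (Nat.cast : ℕ → k) Nat.cast_injective
  -- unknowns: `x`, and `b, q, q₁, q₂, u` in this order
  let τ := Fin n ⊕ (Fin 5 × Fin p)
  let vx : Fin n → MvPolynomial (Fin p ⊕ τ) k := fun t => X (Sum.inr (Sum.inl t))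
  let vv : Fin 5 → Fin p → MvPolynomial (Fin p ⊕ τ) k := fun e i => X (Sum.inr (Sum.inr (e, i)))
  let S : Set (MvPolynomial (Fin p ⊕ τ) k) :=
    (Set.range fun i : Fin p => ∑ j, ∑ t, C (m i j t) * vx t * vv 0 j - X (Sum.inl i)) ∪
    (Set.range fun i : Fin p => ∑ j, ∑ t, C (m i j t) * vx t * vv 1 j) ∪
    (Set.range fun i : Fin p => ∑ j, ∑ t, C (m i j t) * vx t * vv 2 j) ∪
    (Set.range fun i : Fin p => ∑ j, ∑ t, C (m i j t) * vx t * vv 3 j) ∪
    (Set.range fun t : Fin n => ∑ i, ∑ j, C (m i j t) * (vv 1 i * vv 0 j + vv 2 i * vv 3 j)) ∪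
    {∑ i, vv 4 i * vv 1 i - 1}
  refine Groth.Agent.Lefpen.H702.Engine.isGeneric_of_system (LinearEquiv.refl k (Fin p → k)) S ?_ ?_
  · intro K _ _ s P hS
    refine no_generic m hm s (fun t => P (Sum.inl t)) (fun j => P (Sum.inr (0, j))) (fun j => P (Sum.inr (1, j)))
      (fun j => P (Sum.inr (2, j))) (fun j => P (Sum.inr (3, j))) (fun j => P (Sum.inr (4, j))) ?_ ?_ ?_ ?_ ?_ ?_
    · intro i
      have := hS _ (Or.inl (Or.inl (Or.inl (Or.inl (Or.inl ⟨i, rfl⟩)))))
      rw [map_sub, sub_eq_zero] at this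
      simpa [vx, vv] using this
    · intro i
      have := hS _ (Or.inl (Or.inl (Or.inl (Or.inl (Or.inr ⟨i, rfl⟩)))))
      simpa [vx, vv] using this
    · intro i
      have := hS _ (Or.inl (Or.inl (Or.inl (Or.inr ⟨i, rfl⟩))))
      simpa [vx, vv] using this
    · intro i
      have := hS _ (Or.inl (Or.inl (Or.inr ⟨i, rfl⟩)))
      simpa [vx, vv] using this
    · intro t
      have := hS _ (Or.inl (Or.inr ⟨t, rfl⟩))
      simpa [vx, vv] using this
    · have := hS _ (Or.inr rfl)
      rw [map_sub, sub_eq_zero] at this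
      simpa [vx, vv] using this
  · intro s hs
    simp only [Set.mem_ofPred_eq, not_forall] at hs
    obtain ⟨x, b, q, q₁, q₂, h1, h2, h3, h4, h5, hq⟩ := hs
    obtain ⟨i₀, hi₀⟩ := Function.ne_iff.1 hq
    rw [Pi.zero_apply] at hi₀
    refine ⟨Sum.elim x fun e => (![b, q, q₁, q₂, Pi.single i₀ (q i₀)⁻¹] : Fin 5 → Fin p → k) e.1 e.2, ?_⟩
    rintro Q (((((⟨i, rfl⟩ | ⟨i, rfl⟩) | ⟨i, rfl⟩) | ⟨i, rfl⟩) | ⟨t, rfl⟩) | hQ)
    · simp only [map_sub, map_sum, map_mul, vx, vv, aeval_X, Sum.elim_inl, Sum.elim_inr, sub_eq_zero,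
        LinearEquiv.refl_apply, algHom_C, Algebra.algebraMap_self, RingHom.id_apply]
      exact h1 i
    · simp only [map_sum, map_mul, vx, vv, aeval_X, Sum.elim_inl, Sum.elim_inr,
        LinearEquiv.refl_apply, algHom_C, Algebra.algebraMap_self, RingHom.id_apply]
      exact h2 i
    · simp only [map_sum, map_mul, vx, vv, aeval_X, Sum.elim_inl, Sum.elim_inr,
        LinearEquiv.refl_apply, algHom_C, Algebra.algebraMap_self, RingHom.id_apply]
      exact h3 i
    · simp only [map_sum, map_mul, vx, vv, aeval_X, Sum.elim_inl, Sum.elim_inr,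
        LinearEquiv.refl_apply, algHom_C, Algebra.algebraMap_self, RingHom.id_apply]
      exact h4 i
    · simp only [map_sum, map_mul, map_add, vx, vv, aeval_X, Sum.elim_inl, Sum.elim_inr,
        LinearEquiv.refl_apply, algHom_C, Algebra.algebraMap_self, RingHom.id_apply]
      exact h5 t
    · rw [Set.mem_singleton_iff.1 hQ]
      simp only [map_sub, map_sum, map_mul, map_one, vv, aeval_X, Sum.elim_inr, sub_eq_zero]
      change ∑ i, (Pi.single i₀ (q i₀)⁻¹ : Fin p → k) i * q i = 1
      rw [Finset.sum_eq_single i₀]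
      · rw [Pi.single_eq_same, inv_mul_cancel₀ hi₀]
      · intro j _ hj
        rw [Pi.single_eq_of_ne hj, zero_mul]
      · intro h
        exact absurd (Finset.mem_univ _) h

end K409.PfGen
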