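import Mathlib.Algebra.BigOperators.Fin
import Mathlib.Algebra.BigOperators.Ring.Finset
import Mathlib.Algebra.CharZero.Defs
import Mathlib.Data.Fintype.Basic
import Mathlib.Tactic.LinearCombination
import Mathlib.Tactic.FinCases
import Mathlib.Tactic.Ring

/-!
# Skew 5 × 5 matrices of rank two and the polarised Pfaffians
-/

set_option autoImplicit false
universe u

namespace K409.Skew5

variable {k : Type u} [Field k]

/-- the polarised Pfaffian of the block with rows `a, b, c, d` -/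
def p4 (m n : Fin 5 → Fin 5 → k) (a b c d : Fin 5) : k :=
  m a b * n c d + n a b * m c d - m a c * n b d - n a c * m b d + m a d * n b c + n a d * m b c

/-- the Pfaffian of the block with rows `a, b, c, d` -/
def q4 (m : Fin 5 → Fin 5 → k) (a b c d : Fin 5) : k := m a b * m c d - m a c * m b d + m a d * m b c

/-- An alternating function of four indices in `Fin 5` vanishes if it vanishes on the increasing ones. -/
theorem alt_zero (h2 : (2 : k) ≠ 0) {P : Fin 5 → Fin 5 → Fin 5 → Fin 5 → k}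
    (s1 : ∀ a b c d, P b a c d = -P a b c d) (s2 : ∀ a b c d, P a c b d = -P a b c d)
    (s3 : ∀ a b c d, P a b d c = -P a b c d)
    (h0 : P 1 2 3 4 = 0) (h1 : P 0 2 3 4 = 0) (h2' : P 0 1 3 4 = 0) (h3 : P 0 1 2 4 = 0) (h4 : P 0 1 2 3 = 0)
    (a b c d : Fin 5) : P a b c d = 0 := by
  have hz : ∀ z : k, z = -z → z = 0 := by
    intro z hz
    have : 2 * z = 0 := by linear_combination hz
    exact (mul_eq_zero.1 this).resolve_left h2
  have e1 : ∀ a c d, P a a c d = 0 := fun a c d => hz _ (s1 a a c d)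
  have e2 : ∀ a b d, P a b b d = 0 := fun a b d => hz _ (s2 a b b d)
  have e3 : ∀ a b c, P a b c c = 0 := fun a b c => hz _ (s3 a b c c)
  have hsort : ∀ a b c d : Fin 5, a < b → b < c → c < d → P a b c d = 0 := by
    have hc : ∀ a b c d : Fin 5, a < b → b < c → c < d →
        (a = 1 ∧ b = 2 ∧ c = 3 ∧ d = 4) ∨ (a = 0 ∧ b = 2 ∧ c = 3 ∧ d = 4) ∨ (a = 0 ∧ b = 1 ∧ c = 3 ∧ d = 4) ∨
        (a = 0 ∧ b = 1 ∧ c = 2 ∧ d = 4) ∨ (a = 0 ∧ b = 1 ∧ c = 2 ∧ d = 3) := by decide
    intro a b c d hab hbc hcd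
    rcases hc a b c d hab hbc hcd with ⟨rfl, rfl, rfl, rfl⟩ | ⟨rfl, rfl, rfl, rfl⟩ | ⟨rfl, rfl, rfl, rfl⟩ |
      ⟨rfl, rfl, rfl, rfl⟩ | ⟨rfl, rfl, rfl, rfl⟩
    exacts [h0, h1, h2', h3, h4]
  -- insert the first index
  have t1 : ∀ a b c d : Fin 5, b < c → c < d → P a b c d = 0 := by
    intro a b c d hbc hcd
    rcases lt_trichotomy a b with hab | rfl | hab
    · exact hsort a b c d hab hbc hcd
    · exact e1 _ _ _
    · rw [s1 b a c d, neg_eq_zero]
      rcases lt_trichotomy a c with hac | rfl | hac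
      · exact hsort b a c d hab hac hcd
      · exact e2 _ _ _
      · rw [s2 b c a d, neg_eq_zero]
        rcases lt_trichotomy a d with had | rfl | had
        · exact hsort b c a d hbc hac had
        · exact e3 _ _ _
        · rw [s3 b c d a, neg_eq_zero]
          exact hsort b c d a hbc hcd had
  -- insert the second index
  have t2 : ∀ a b c d : Fin 5, c < d → P a b c d = 0 := by
    intro a b c d hcd
    rcases lt_trichotomy b c with hbc | rfl | hbc
    · exact t1 a b c d hbc hcd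
    · exact e2 _ _ _
    · rw [s2 a c b d, neg_eq_zero]
      rcases lt_trichotomy b d with hbd | rfl | hbd
      · exact t1 a c b d hbc hbd
      · exact e3 _ _ _
      · rw [s3 a c d b, neg_eq_zero]
        exact t1 a c d b hcd hbd
  rcases lt_trichotomy c d with hcd | rfl | hcd
  · exact t2 a b c d hcd
  · exact e3 _ _ _
  · rw [s3 a b d c, neg_eq_zero]
    exact t2 a b d c hcd

variable {m n : Fin 5 → Fin 5 → k} (hm : ∀ i j, m i j = -m j i) (hn : ∀ i j, n i j = -n j i)

include hm hn in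
theorem p4_zero (h2 : (2 : k) ≠ 0) (h0 : p4 m n 1 2 3 4 = 0) (h1 : p4 m n 0 2 3 4 = 0) (h2' : p4 m n 0 1 3 4 = 0)
    (h3 : p4 m n 0 1 2 4 = 0) (h4 : p4 m n 0 1 2 3 = 0) (a b c d : Fin 5) : p4 m n a b c d = 0 := by
  refine alt_zero h2 (P := p4 m n) ?_ ?_ ?_ h0 h1 h2' h3 h4 a b c d
  · intro a b c d
    simp only [p4]
    rw [hm b a, hn b a]
    ring
  · intro a b c d
    simp only [p4]
    rw [hm c b, hn c b]
    ring
  · intro a b c d
    simp only [p4]
    rw [hm d c, hn d c]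
    ring

include hm in
theorem q4_zero (h2 : (2 : k) ≠ 0) (h0 : q4 m 1 2 3 4 = 0) (h1 : q4 m 0 2 3 4 = 0) (h2' : q4 m 0 1 3 4 = 0)
    (h3 : q4 m 0 1 2 4 = 0) (h4 : q4 m 0 1 2 3 = 0) (a b c d : Fin 5) : q4 m a b c d = 0 := by
  refine alt_zero h2 (P := q4 m) ?_ ?_ ?_ h0 h1 h2' h3 h4 a b c d
  · intro a b c d
    simp only [q4]
    rw [hm b a]
    ring
  · intro a b c d
    simp only [q4]
    rw [hm c b]
    ring
  · intro a b c d
    simp only [q4]
    rw [hm d c]
    ring

include hm in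
/-- A vector killed by two rows `c, d` with `m c d ≠ 0` is killed by the matrix (of rank two). -/
theorem ker_of_two (hq : ∀ a b c d, q4 m a b c d = 0) {c d : Fin 5} (hcd : m c d ≠ 0) {u : Fin 5 → k}
    (hc : ∑ b, m c b * u b = 0) (hd : ∑ b, m d b * u b = 0) (a : Fin 5) : ∑ b, m a b * u b = 0 := by
  apply (mul_eq_zero.1 (?_ : m c d * ∑ b, m a b * u b = 0)).resolve_left hcd
  have h1 : ∀ b, m c d * m a b = -m a c * m d b + m a d * m c b := by
    intro b
    have := hq a b c d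
    simp only [q4] at this
    rw [hm b d, hm b c] at this
    linear_combination this
  calc m c d * ∑ b, m a b * u b = -m a c * ∑ b, m d b * u b + m a d * ∑ b, m c b * u b := by
        rw [Finset.mul_sum, Finset.mul_sum, Finset.mul_sum, ← Finset.sum_add_distrib]
        refine Finset.sum_congr rfl fun b _ => ?_
        rw [← mul_assoc, h1]
        ring
    _ = 0 := by rw [hc, hd, mul_zero, mul_zero, add_zero]

include hm in
/-- If the polarised Pfaffians of `m` and `n` vanish then `n` vanishes on the kernel of `m ≠ 0`. -/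
theorem polar_ker (hp : ∀ a b c d, p4 m n a b c d = 0) {c d : Fin 5} (hcd : m c d ≠ 0) {u w : Fin 5 → k}
    (hu : ∀ a, ∑ b, m a b * u b = 0) (hw : ∀ a, ∑ b, m a b * w b = 0) :
    ∑ a, ∑ b, n a b * (u a * w b) = 0 := by
  apply (mul_eq_zero.1 (?_ : m c d * ∑ a, ∑ b, n a b * (u a * w b) = 0)).resolve_left hcd
  have hu' : ∀ c, ∑ a, m a c * u a = 0 := fun c => by
    rw [← neg_eq_zero, ← hu c, ← Finset.sum_neg_distrib]
    exact Finset.sum_congr rfl fun a _ => by rw [hm c a]; ring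
  have hw' : ∀ c, ∑ a, m a c * w a = 0 := fun c => by
    rw [← neg_eq_zero, ← hw c, ← Finset.sum_neg_distrib]
    exact Finset.sum_congr rfl fun a _ => by rw [hm c a]; ring
  have e1 : ∑ a, ∑ b, (m a b * n c d) * (u a * w b) = 0 := by
    refine Finset.sum_eq_zero fun a _ => ?_
    have : ∑ b, (m a b * n c d) * (u a * w b) = (n c d * u a) * ∑ b, m a b * w b := by
      rw [Finset.mul_sum]
      exact Finset.sum_congr rfl fun b _ => by ring
    rw [this, hw, mul_zero]
  have e2 : ∀ (f g : Fin 5 → k), ∑ a, ∑ b, (f a * g b) * (u a * w b) = (∑ a, f a * u a) * ∑ b, g b * w b := by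
    intro f g
    rw [Finset.sum_mul_sum]
    exact Finset.sum_congr rfl fun a _ => Finset.sum_congr rfl fun b _ => by ring
  have e3 : ∑ a, ∑ b, p4 m n a b c d * (u a * w b) = 0 :=
    Finset.sum_eq_zero fun a _ => Finset.sum_eq_zero fun b _ => by rw [hp, zero_mul]
  have e4 : ∑ a, ∑ b, p4 m n a b c d * (u a * w b) =
      ∑ a, ∑ b, (m a b * n c d) * (u a * w b) + m c d * ∑ a, ∑ b, n a b * (u a * w b) -
      ∑ a, ∑ b, (m a c * n b d) * (u a * w b) - ∑ a, ∑ b, (n a c * m b d) * (u a * w b) +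
      ∑ a, ∑ b, (m a d * n b c) * (u a * w b) + ∑ a, ∑ b, (n a d * m b c) * (u a * w b) := by
    simp only [p4, Finset.mul_sum, ← Finset.sum_add_distrib, ← Finset.sum_sub_distrib]
    exact Finset.sum_congr rfl fun a _ => Finset.sum_congr rfl fun b _ => by ring
  rw [e3, e1, e2 (fun a => m a c) (fun b => n b d), e2 (fun a => n a c) (fun b => m b d),
    e2 (fun a => m a d) (fun b => n b c), e2 (fun a => n a d) (fun b => m b c), hu', hu', hw', hw'] at e4
  linear_combination -e4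

include hm hn in
/-- The vector of the polarised Pfaffians is orthogonal to the rows of `m` if the Pfaffians of `m` vanish. -/
theorem row_polar (h2 : (2 : k) ≠ 0) (hq : ∀ a b c d, q4 m a b c d = 0) (e : Fin 5) :
    m e 0 * p4 m n 1 2 3 4 - m e 1 * p4 m n 0 2 3 4 + m e 2 * p4 m n 0 1 3 4 - m e 3 * p4 m n 0 1 2 4 +
      m e 4 * p4 m n 0 1 2 3 = 0 := by
  have hz : ∀ z : k, z = -z → z = 0 := by
    intro z hz
    have : 2 * z = 0 := by linear_combination hz
    exact (mul_eq_zero.1 this).resolve_left h2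
  have md : ∀ i, m i i = 0 := fun i => hz _ (hm i i)
  have nd : ∀ i, n i i = 0 := fun i => hz _ (hn i i)
  have key : m e 0 * p4 m n 1 2 3 4 - m e 1 * p4 m n 0 2 3 4 + m e 2 * p4 m n 0 1 3 4 - m e 3 * p4 m n 0 1 2 4 +
      m e 4 * p4 m n 0 1 2 3 =
      -(n e 0 * q4 m 1 2 3 4 - n e 1 * q4 m 0 2 3 4 + n e 2 * q4 m 0 1 3 4 - n e 3 * q4 m 0 1 2 4 +
      n e 4 * q4 m 0 1 2 3) := by
    fin_cases e
    · simp only [Fin.zero_eta, p4, q4, md 0, nd 0]
      ring
    · simp only [Fin.mk_one, p4, q4, md 1, nd 1, hm 1 0, hn 1 0]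
      ring
    · simp only [Fin.reduceFinMk, p4, q4, md 2, nd 2, hm 2 0, hn 2 0, hm 2 1, hn 2 1]
      ring
    · simp only [Fin.reduceFinMk, p4, q4, md 3, nd 3, hm 3 0, hn 3 0, hm 3 1, hn 3 1, hm 3 2, hn 3 2]
      ring
    · simp only [Fin.reduceFinMk, p4, q4, md 4, nd 4, hm 4 0, hn 4 0, hm 4 1, hn 4 1, hm 4 2, hn 4 2, hm 4 3, hn 4 3]
      ring
  rw [key, hq, hq, hq, hq, hq]
  ring

end K409.Skew5
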