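import Groth.Agent.Curves.K334.Hopf
import Mathlib.LinearAlgebra.Matrix.Adjugate
import Mathlib.LinearAlgebra.Matrix.NonsingularInverse

/-!
# A 3 × 3 matrix of linear forms in four variables acquires a zero entry

`exists_zero_entry`: over an algebraically closed field, for four 3 × 3 matrices `N t` there are nonzero `a`, `b` with
`aᵀ (N t) b = 0` for all `t` (Hopf's lemma `3 + 3 ≤ 4 + 1` fails). `exists_gl`: invertible `P`, `Q` with
`(P * N t * Q) i₀ j₀ = 0` for all `t`.
-/

set_option autoImplicit false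
universe u

namespace K409.ZeroEntry

open Matrix

variable {k : Type u} [Field k]

/-- Four bilinear forms on `k³ × k³` have a common zero `(a, b)` with `a, b ≠ 0`. -/
theorem exists_zero_entry [IsAlgClosed k] (N : Matrix (Fin 3) (Fin 3) (Fin 4 → k)) :
    ∃ a b : Fin 3 → k, a ≠ 0 ∧ b ≠ 0 ∧ ∀ t : Fin 4, ∑ i, ∑ j, a i * N i j t * b j = 0 := by
  obtain ⟨a, b, ha, hb, h⟩ := K334.Hopf.exists_pure k (m := 3) (n := 3) (by norm_num) (by norm_num) 4 (by norm_num)
    (fun t i j => N i j t)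
  refine ⟨a, b, ha, hb, fun t => ?_⟩
  rw [← h t]
  refine Finset.sum_congr rfl fun i _ => Finset.sum_congr rfl fun j _ => ?_
  ring

/-- A nonzero vector is a prescribed column of an invertible matrix. -/
theorem exists_col {n : ℕ} {a : Fin n → k} (ha : a ≠ 0) (i₀ : Fin n) :
    ∃ P : Matrix (Fin n) (Fin n) k, P.det ≠ 0 ∧ ∀ i, P i i₀ = a i := by
  classical
  obtain ⟨j, hj⟩ := Function.ne_iff.1 ha
  have hT : ((1 : Matrix (Fin n) (Fin n) k).updateCol j a).det = a j := by
    rw [← Matrix.cramer_apply, Matrix.cramer_one]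
    rfl
  refine ⟨((1 : Matrix (Fin n) (Fin n) k).updateCol j a).submatrix id (Equiv.swap i₀ j), ?_, fun i => ?_⟩
  · rw [Matrix.det_permute', hT]
    refine mul_ne_zero ?_ hj
    rcases Int.units_eq_one_or (Equiv.Perm.sign (Equiv.swap i₀ j)) with h | h <;> rw [h] <;> simp
  · rw [Matrix.submatrix_apply, Equiv.swap_apply_left, Matrix.updateCol_self]
    rfl

/-- A nonzero vector is a prescribed row of an invertible matrix. -/
theorem exists_row {n : ℕ} {a : Fin n → k} (ha : a ≠ 0) (i₀ : Fin n) :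
    ∃ P : Matrix (Fin n) (Fin n) k, P.det ≠ 0 ∧ ∀ i, P i₀ i = a i := by
  obtain ⟨P, hP, h⟩ := exists_col ha i₀
  exact ⟨P.transpose, by rwa [Matrix.det_transpose], h⟩

/-- After multiplication by invertible matrices from both sides, the entry `(i₀, j₀)` of a 3 × 3 matrix of linear
forms in four variables vanishes. -/
theorem exists_gl [IsAlgClosed k] (N : Fin 4 → Matrix (Fin 3) (Fin 3) k) (i₀ j₀ : Fin 3) :
    ∃ P Q : Matrix (Fin 3) (Fin 3) k, P.det ≠ 0 ∧ Q.det ≠ 0 ∧ ∀ t, (P * N t * Q) i₀ j₀ = 0 := by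
  obtain ⟨a, b, ha, hb, h⟩ := exists_zero_entry (fun i j t => N t i j)
  obtain ⟨P, hP, hPa⟩ := exists_row ha i₀
  obtain ⟨Q, hQ, hQb⟩ := exists_col hb j₀
  refine ⟨P, Q, hP, hQ, fun t => ?_⟩
  rw [← h t, Matrix.mul_apply]
  simp only [Matrix.mul_apply, Finset.sum_mul, hPa, hQb]
  rw [Finset.sum_comm]

end K409.ZeroEntry
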